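/-
The faithful representation of the presented Fi23 on 31671 points, evaluated on natural numbers.
-/
import Cfsg.Agent.Lib.CosetEnum.Fi23Aut.Main

set_option autoImplicit false
set_option maxRecDepth 100000

namespace CfsgLib.CosetEnum.Fi23Three

open CfsgLib.CosetEnum

/-- The presented group. -/
abbrev K : Type := presFi23.Grp

theorem finiteK : Finite K := Cfsg.Agent.S1697.upper.1

theorem simpleK : IsSimpleGroup K := Cfsg.Agent.S1697.result.1

theorem cardK : Nat.card K = 4089470473293004800 := Cfsg.Agent.S1697.result.2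

/-- The representation. -/
noncomputable abbrev rho : K →* Equiv.Perm (Fin Fi31671.cert.T.n) := Fi31671.cert.hom Fi31671.hlt

theorem rho_injective : Function.Injective rho := Fi23Aut.hinj

/-- The image of a point. -/
noncomputable def act (g : K) (d : ℕ) : ℕ := if h : d < 31671 then (rho g ⟨d, h⟩ : ℕ) else d

theorem act_of_lt (g : K) {d : ℕ} (h : d < 31671) : act g d = (rho g ⟨d, h⟩ : ℕ) := dif_pos h

theorem act_lt (g : K) {d : ℕ} (h : d < 31671) : act g d < 31671 := by
  rw [act_of_lt g h]; exact (rho g ⟨d, h⟩).2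

theorem act_mul (g g' : K) (d : ℕ) : act (g * g') d = act g (act g' d) := by
  by_cases h : d < 31671
  · rw [act_of_lt _ h, act_of_lt g (act_lt g' h), map_mul, Equiv.Perm.mul_apply]
    exact congrArg (fun q => ((rho g q : Fin Fi31671.cert.T.n) : ℕ)) (Fin.ext (act_of_lt g' h).symm)
  · simp [act, h]

theorem act_one (d : ℕ) : act 1 d = d := by
  by_cases h : d < 31671
  · rw [act_of_lt _ h, map_one, Equiv.Perm.one_apply]
  · simp [act, h]

theorem act_inv_act (g : K) (d : ℕ) : act g⁻¹ (act g d) = d := by rw [← act_mul, inv_mul_cancel, act_one]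

theorem act_act_inv (g : K) (d : ℕ) : act g (act g⁻¹ d) = d := by rw [← act_mul, mul_inv_cancel, act_one]

theorem act_injective (g : K) : Function.Injective (act g) := fun a b h => by
  rw [← act_inv_act g a, h, act_inv_act]

/-- The element of a word. -/
noncomputable def el (w : List ℕ) : K := (w.map presFi23.σ).prod

theorem el_singleton (x : ℕ) : el [x] = presFi23.σ x := by simp [el]

theorem act_el (w : List ℕ) (hw : ∀ x ∈ w, x < 10) {d : ℕ} (hd : d < 31671) :
    act (el w) d = runT Fi31671.table 10 w.reverse d := by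
  rw [act_of_lt _ hd]
  exact Fi31671.cert.hom_word_run' Fi31671.hlt Fi23Aut.hid w hw ⟨d, hd⟩

theorem act_el_inv (w : List ℕ) (hw : ∀ x ∈ w, x < 10) {d : ℕ} (hd : d < 31671) :
    act (el w)⁻¹ d = runT Fi31671.table 10 w d := by
  rw [act_of_lt _ hd]
  exact Fi31671.cert.hom_inv_word Fi31671.hlt Fi23Aut.hid w hw ⟨d, hd⟩

/-- Eight points with trivial pointwise stabiliser. -/
def base8 : List ℕ := [1, 6, 2, 7, 0, 3, 4, 8]

theorem base8_lt : ∀ b ∈ base8, b < 31671 := by decide

theorem fixSub_base : Fi31671.cert.fixSub Fi31671.hlt base8 = ⊥ := by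
  have := finiteK
  rw [Subgroup.eq_bot_iff_card]
  have h := Fi31671.cert.card_le_of_fixSub Fi31671.hlt (Cfsg.Agent.S1697.lower
    (K := Nat.card (Fi31671.cert.fixSub Fi31671.hlt base8)) le_rfl)
  rw [show Nat.card presFi23.Grp = 4089470473293004800 from cardK] at h
  have h1 : 0 < Nat.card (Fi31671.cert.fixSub Fi31671.hlt base8) := Nat.card_pos
  omega

/-- An element is determined by the images of the eight points. -/
theorem ext8 {g g' : K} (h : ∀ b ∈ base8, act g b = act g' b) : g = g' := by
  have hm : g'⁻¹ * g ∈ Fi31671.cert.fixSub Fi31671.hlt base8 := fun d hd => by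
    refine Fin.ext ?_
    have e : act (g'⁻¹ * g) (d : ℕ) = d := by rw [act_mul, h _ hd, act_inv_act]
    rwa [act_of_lt _ d.2] at e
  rw [fixSub_base, Subgroup.mem_bot, inv_mul_eq_one] at hm
  exact hm.symm

end CfsgLib.CosetEnum.Fi23Three
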