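/-
The transposition of a point of the presented Fi23.
-/
import Cfsg.Agent.Lib.CosetEnum.Fi23Three.Base

set_option autoImplicit false
set_option maxRecDepth 100000

namespace CfsgLib.CosetEnum.Fi23Three

open CfsgLib.CosetEnum

/-- The transposition of the first point. -/
noncomputable abbrev tz : K := Fi23Aut.tz

theorem act_tz {d : ℕ} (hd : d < 31671) : act tz d = Fi23Class.zf d := by
  rw [act_of_lt _ hd]; exact Fi23Aut.real_t ⟨d, hd⟩

/-- An element carrying the first point to a point. -/
noncomputable def toPt (d : ℕ) : K :=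
  if h : d < 31671 then (Fi31671.cert.exists_hom_zero Fi31671.hlt Fi23Aut.hid ⟨d, h⟩).choose else 1

theorem act_toPt {d : ℕ} (h : d < 31671) : act (toPt d) 0 = d := by
  rw [toPt, dif_pos h, act_of_lt _ (by norm_num : 0 < 31671)]
  exact congrArg Fin.val (Fi31671.cert.exists_hom_zero Fi31671.hlt Fi23Aut.hid ⟨d, h⟩).choose_spec

theorem cent_tz {g : K} : Commute g tz ↔ act g 0 = 0 := by
  rw [act_of_lt _ (by norm_num : 0 < 31671)]
  exact ⟨fun h => congrArg Fin.val ((Fi23Aut.stabIsCent g).mpr h.eq),
    fun h => (Fi23Aut.stabIsCent g).mp (Fin.ext h)⟩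

/-- The transposition of a point. -/
noncomputable def dt (d : ℕ) : K := toPt d * tz * (toPt d)⁻¹

theorem dt_eq {d : ℕ} (hd : d < 31671) (u : K) (hu : act u 0 = d) : dt d = u * tz * u⁻¹ := by
  have hc : Commute ((toPt d)⁻¹ * u) tz :=
    cent_tz.mpr (by
      have := act_inv_act (toPt d) 0
      rw [act_mul, hu]
      rwa [act_toPt hd] at this)
  rw [dt]
  calc toPt d * tz * (toPt d)⁻¹ = toPt d * (tz * ((toPt d)⁻¹ * u)) * u⁻¹ := by group
    _ = u * tz * u⁻¹ := by rw [← hc.eq]; group

theorem commute_dt {g : K} {d : ℕ} (hd : d < 31671) : Commute g (dt d) ↔ act g d = d := by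
  set u := toPt d
  have e : Commute g (dt d) ↔ Commute (u⁻¹ * g * u) tz := by
    constructor
    · intro h
      have := h.map (MulAut.conj u⁻¹).toMonoidHom
      simpa [dt, u, MulAut.conj_apply, mul_assoc] using this
    · intro h
      have := h.map (MulAut.conj u).toMonoidHom
      simpa [dt, u, MulAut.conj_apply, mul_assoc] using this
  rw [e, cent_tz, act_mul, act_mul, act_toPt hd]
  constructor
  · intro h
    rw [← act_act_inv u (act g d), h, act_toPt hd]
  · intro h
    rw [h]
    conv_lhs => rw [← act_toPt hd]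
    rw [act_inv_act]

theorem dt_mem (d : ℕ) : dt d ∈ conjugatesOf tz := isConj_iff.mpr ⟨toPt d, rfl⟩

theorem exists_dt {x : K} (hx : x ∈ conjugatesOf tz) : ∃ d < 31671, dt d = x := by
  obtain ⟨u, rfl⟩ := isConj_iff.mp hx
  exact ⟨act u 0, act_lt u (by norm_num), dt_eq (act_lt u (by norm_num)) u rfl⟩

theorem ncard_conjugates : (conjugatesOf tz).ncard = 31671 := by
  have := finiteK
  have := simpleK
  exact (Fi23Class.point_class rho_injective).2.2

theorem dt_injective : Set.InjOn dt {d | d < 31671} := by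
  have := finiteK
  refine Set.injOn_of_ncard_image_eq ?_ (Set.finite_lt_nat 31671)
  have e : dt '' {d | d < 31671} = conjugatesOf tz := by
    ext x
    exact ⟨fun ⟨d, _, e⟩ => e ▸ dt_mem d, fun hx => exists_dt hx⟩
  rw [e, ncard_conjugates, show {d : ℕ | d < 31671} = Set.Iio 31671 from rfl, Set.ncard_eq_toFinset_card']
  simp

theorem act_dt {d e : ℕ} (hd : d < 31671) (he : e < 31671) (w : List ℕ) (hw : ∀ x ∈ w, x < 10)
    (hwd : runT Fi31671.table 10 w d = 0) :
    Commute (dt d) (dt e) ↔ Fi23Class.zf (runT Fi31671.table 10 w e) = runT Fi31671.table 10 w e := by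
  rw [← act_el_inv w hw hd] at hwd
  have hu : act (el w) 0 = d := by rw [← hwd, act_act_inv]
  rw [commute_dt he, ← act_el_inv w hw he, dt_eq hd _ hu, act_mul, act_mul, act_tz (act_lt _ he)]
  constructor
  · intro h
    apply act_injective (el w)
    rw [h, act_act_inv]
  · intro h
    rw [h, act_act_inv]

/-- The last generator of the path lies in the class. -/
theorem gen_mem : presFi23.σ 7 ∈ conjugatesOf tz := by
  obtain ⟨g, hg, -⟩ := Fi23Aut.pt_seven
  exact isConj_iff.mpr ⟨g, hg⟩

theorem conjugates_eq : conjugatesOf (presFi23.σ 7) = conjugatesOf tz :=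
  (IsConj.conjugatesOf_eq gen_mem).symm

end CfsgLib.CosetEnum.Fi23Three
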