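/-
Elements of the presented Fi23 given by their permutations of a list of 3240 points.
-/
import Cfsg.Agent.Lib.CosetEnum.Fi23Three.Base
import Cfsg.Agent.Lib.CosetEnum.Fi23Three.Data

set_option autoImplicit false
set_option maxRecDepth 1000000

namespace CfsgLib.CosetEnum.Fi23Three

open CfsgLib.CosetEnum

/-- The number of points. -/
noncomputable def np : ℕ := nat_lit 3240

/-- A point. -/
noncomputable def pt (i : ℕ) : ℕ := entry oT (nat_lit 64) (nat_lit 16) i

/-- The permutation of a node. -/
noncomputable def tp (k i : ℕ) : ℕ := entry (permTs.getD k (.leaf (nat_lit 0))) (nat_lit 64) (nat_lit 12) i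

/-- The points are increasing and in range. -/
noncomputable def okPts : Bool :=
  allN np fun i' => force i' fun i => Nat.blt (pt i) (nat_lit 31671) &&
    (Nat.beq (Nat.succ i) np || Nat.blt (pt i) (pt (Nat.succ i)))

theorem pts_ok : okPts = true := by decide +kernel

theorem pt_spec {i : ℕ} (hi : i < np) : pt i < 31671 ∧ (i + 1 < np → pt i < pt (i + 1)) := by
  have := allN_spec pts_ok i hi
  simp only [force_eq, Bool.and_eq_true, Bool.or_eq_true, blt_iff] at this
  refine ⟨this.1, fun h => this.2.resolve_left fun q => ?_⟩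
  have := Nat.eq_of_beq_eq_true q
  omega

theorem pt_mono {i j : ℕ} (hj : j < np) (h : i < j) : pt i < pt j := by
  induction j with
  | zero => omega
  | succ j ih =>
    have h1 := (pt_spec (i := j) (by omega)).2 hj
    rcases Nat.lt_succ_iff_lt_or_eq.mp h with h' | h'
    · exact (ih (by omega) h').trans h1
    · exact h' ▸ h1

theorem pt_inj {i j : ℕ} (hi : i < np) (hj : j < np) (h : pt i = pt j) : i = j := by
  rcases lt_trichotomy i j with q | q | q
  · exact absurd h (pt_mono hj q).ne
  · exact q
  · exact absurd h (pt_mono hi q).ne'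

/-- An element permutes the points as a map permutes their positions. -/
def Real (g : K) (f : ℕ → ℕ) : Prop := ∀ i < np, f i < np ∧ act g (pt i) = pt (f i)

theorem Real.one : Real 1 (fun i => i) := fun _ hi => ⟨hi, act_one _⟩

theorem Real.mul {g h : K} {f f' : ℕ → ℕ} (hg : Real g f) (hh : Real h f') : Real (g * h) (fun i => f (f' i)) :=
  fun i hi => ⟨(hg _ (hh i hi).1).1, by rw [act_mul, (hh i hi).2, (hg _ (hh i hi).1).2]⟩

/-- Two maps of positions agree. -/
noncomputable def eqMap (f : ℕ → ℕ) (k : ℕ) : Bool := allN np fun i' => force i' fun i => Nat.beq (f i) (tp k i)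

theorem Real.of_eq {g : K} {f : ℕ → ℕ} (hg : Real g f) (k : ℕ) (h : eqMap f k = true) : Real g (tp k) := by
  intro i hi
  have := allN_spec h i hi
  rw [force_eq] at this
  rw [← Nat.eq_of_beq_eq_true this]
  exact hg i hi

/-- A map of positions is undone by another. -/
noncomputable def invMap (f : ℕ → ℕ) (k : ℕ) : Bool :=
  allN np fun i' => force i' fun i => force (tp k i) fun q => Nat.blt q np && Nat.beq (f q) i

theorem Real.inv {g : K} {f : ℕ → ℕ} (hg : Real g f) (k : ℕ) (h : invMap f k = true) : Real g⁻¹ (tp k) := by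
  intro i hi
  have := allN_spec h i hi
  simp only [force_eq, Bool.and_eq_true, blt_iff] at this
  obtain ⟨h1, h2⟩ := this
  refine ⟨h1, ?_⟩
  apply act_injective g
  rw [act_act_inv, (hg _ h1).2, Nat.eq_of_beq_eq_true h2]

/-- The permutation of a generator is that of its word. -/
noncomputable def okGen (k : ℕ) : Bool :=
  allN np fun i' => force i' fun i => force (tp k i) fun q => Nat.blt q np &&
    Nat.beq (runT Fi31671.table (nat_lit 10) (gensW.getD k []).reverse (pt i)) (pt q)

theorem Real.gen (k : ℕ) (hw : ((gensW.getD k []).all fun x => Nat.blt x 10) = true) (h : okGen k = true) :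
    Real (el (gensW.getD k [])) (tp k) := by
  intro i hi
  have := allN_spec h i hi
  simp only [force_eq, Bool.and_eq_true, blt_iff] at this
  obtain ⟨h1, h2⟩ := this
  exact ⟨h1, by rw [act_el _ (fun x hx => by simpa using List.all_eq_true.mp hw x hx) (pt_spec hi).1]; exact Nat.eq_of_beq_eq_true h2⟩

/-- The eight points are in the list. -/
theorem bpos_spec : bpos.map pt = base8 ∧ ∀ p ∈ bpos, p < np := by decide +kernel

theorem ext_pos {g g' : K} {f f' : ℕ → ℕ} (hg : Real g f) (hg' : Real g' f') (h : ∀ p ∈ bpos, f p = f' p) :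
    g = g' := by
  refine ext8 fun b hb => ?_
  rw [← bpos_spec.1] at hb
  obtain ⟨p, hp, rfl⟩ := List.mem_map.mp hb
  have hlt := bpos_spec.2 p hp
  rw [(hg p hlt).2, (hg' p hlt).2, h p hp]

end CfsgLib.CosetEnum.Fi23Three
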