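/-
The elements of the nodes.
-/
import Cfsg.Agent.Lib.CosetEnum.Fi23Three.Real

set_option autoImplicit false
set_option maxRecDepth 1000000

namespace CfsgLib.CosetEnum.Fi23Three

open CfsgLib.CosetEnum

/-- Node 0. -/
noncomputable def val0 : K := el (gensW.getD 0 [])

theorem val0_real : Real val0 (tp 0) :=
  Real.gen 0 (by decide +kernel) (by decide +kernel)

/-- Node 1. -/
noncomputable def val1 : K := el (gensW.getD 1 [])

theorem val1_real : Real val1 (tp 1) :=
  Real.gen 1 (by decide +kernel) (by decide +kernel)

/-- Node 2. -/
noncomputable def val2 : K := el (gensW.getD 2 [])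

theorem val2_real : Real val2 (tp 2) :=
  Real.gen 2 (by decide +kernel) (by decide +kernel)

/-- Node 3. -/
noncomputable def val3 : K := (val0)⁻¹

theorem val3_real : Real val3 (tp 3) :=
  Real.inv val0_real 3 (by decide +kernel)

/-- Node 4. -/
noncomputable def val4 : K := (val1)⁻¹

theorem val4_real : Real val4 (tp 4) :=
  Real.inv val1_real 4 (by decide +kernel)

/-- Node 5. -/
noncomputable def val5 : K := val3 * val4 * val0 * val1

theorem val5_real : Real val5 (tp 5) :=
  Real.of_eq (Real.mul (Real.mul (Real.mul val3_real val4_real) val0_real) val1_real) 5 (by decide +kernel)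

/-- Node 6. -/
noncomputable def val6 : K := (val5)⁻¹

theorem val6_real : Real val6 (tp 6) :=
  Real.inv val5_real 6 (by decide +kernel)

/-- Node 7. -/
noncomputable def val7 : K := val6 * val3 * val5 * val0

theorem val7_real : Real val7 (tp 7) :=
  Real.of_eq (Real.mul (Real.mul (Real.mul val6_real val3_real) val5_real) val0_real) 7 (by decide +kernel)

/-- Node 8. -/
noncomputable def val8 : K := (val2)⁻¹

theorem val8_real : Real val8 (tp 8) :=
  Real.inv val2_real 8 (by decide +kernel)

/-- Node 9. -/
noncomputable def val9 : K := val6 * val8 * val5 * val2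

theorem val9_real : Real val9 (tp 9) :=
  Real.of_eq (Real.mul (Real.mul (Real.mul val6_real val8_real) val5_real) val2_real) 9 (by decide +kernel)

/-- Node 10. -/
noncomputable def val10 : K := (val9)⁻¹

theorem val10_real : Real val10 (tp 10) :=
  Real.inv val9_real 10 (by decide +kernel)

/-- Node 11. -/
noncomputable def val11 : K := val10 * val4 * val9 * val1

theorem val11_real : Real val11 (tp 11) :=
  Real.of_eq (Real.mul (Real.mul (Real.mul val10_real val4_real) val9_real) val1_real) 11 (by decide +kernel)

/-- Node 12. -/
noncomputable def val12 : K := (val11)⁻¹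

theorem val12_real : Real val12 (tp 12) :=
  Real.inv val11_real 12 (by decide +kernel)

/-- Node 13. -/
noncomputable def val13 : K := val12 * val8 * val11 * val2

theorem val13_real : Real val13 (tp 13) :=
  Real.of_eq (Real.mul (Real.mul (Real.mul val12_real val8_real) val11_real) val2_real) 13 (by decide +kernel)

/-- Node 14. -/
noncomputable def val14 : K := (val13)⁻¹

theorem val14_real : Real val14 (tp 14) :=
  Real.inv val13_real 14 (by decide +kernel)

/-- Node 15. -/
noncomputable def val15 : K := val14 * val4 * val13 * val1

theorem val15_real : Real val15 (tp 15) :=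
  Real.of_eq (Real.mul (Real.mul (Real.mul val14_real val4_real) val13_real) val1_real) 15 (by decide +kernel)

/-- Node 16. -/
noncomputable def val16 : K := val14 * val8 * val13 * val2

theorem val16_real : Real val16 (tp 16) :=
  Real.of_eq (Real.mul (Real.mul (Real.mul val14_real val8_real) val13_real) val2_real) 16 (by decide +kernel)

/-- Node 17. -/
noncomputable def val17 : K := val10 * val8 * val9 * val2

theorem val17_real : Real val17 (tp 17) :=
  Real.of_eq (Real.mul (Real.mul (Real.mul val10_real val8_real) val9_real) val2_real) 17 (by decide +kernel)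

/-- Node 18. -/
noncomputable def val18 : K := val4 * val8 * val1 * val2

theorem val18_real : Real val18 (tp 18) :=
  Real.of_eq (Real.mul (Real.mul (Real.mul val4_real val8_real) val1_real) val2_real) 18 (by decide +kernel)

/-- Node 19. -/
noncomputable def val19 : K := (val18)⁻¹

theorem val19_real : Real val19 (tp 19) :=
  Real.inv val18_real 19 (by decide +kernel)

/-- Node 20. -/
noncomputable def val20 : K := val19 * val8 * val18 * val2

theorem val20_real : Real val20 (tp 20) :=
  Real.of_eq (Real.mul (Real.mul (Real.mul val19_real val8_real) val18_real) val2_real) 20 (by decide +kernel)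

/-- The members of the series. -/
noncomputable def X (j : ℕ) : K :=
  [val7, val15, val16, val13, val11, val17, val9, val5, val0, val20, val18, val1, val2].getD j 1

/-- The permutation of a member. -/
noncomputable def tperm (j : ℕ) : ℕ → ℕ := tp (seqN.getD j (nat_lit 0))

theorem X_real {j : ℕ} (hj : j < 13) : Real (X j) (tperm j) := by
  interval_cases j
  exacts [val7_real, val15_real, val16_real, val13_real, val11_real, val17_real, val9_real, val5_real, val0_real, val20_real, val18_real, val1_real, val2_real]

end CfsgLib.CosetEnum.Fi23Three
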