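/-
A Sylow 3-subgroup of the presented Fi23 as the products along a polycyclic sequence.
-/
import Cfsg.Agent.Lib.CosetEnum.Fi23Three.Nodes
import Mathlib.GroupTheory.Sylow

set_option autoImplicit false
set_option maxRecDepth 1000000

namespace CfsgLib.CosetEnum.Fi23Three

open CfsgLib.CosetEnum

/-- The digit of an index. -/
noncomputable def digit (i j : ℕ) : ℕ := Nat.mod (Nat.div i (Nat.pow (nat_lit 3) j)) (nat_lit 3)

/-- The product of an index over the first members, the later members to the left. -/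
noncomputable def Pel : ℕ → ℕ → K
  | 0, _ => 1
  | j + 1, i => X j ^ digit i j * Pel j i

/-- The image of a position under a product of an index. -/
noncomputable def pev (j i d : ℕ) : ℕ :=
  Nat.rec d (fun j' v => Nat.rec v (fun _ a => force a (tperm j')) (digit i j')) j

theorem Real_pow {j : ℕ} (hj : j < 13) (e : ℕ) : Real (X j ^ e) (fun d => Nat.rec d (fun _ a => force a (tperm j)) e) := by
  induction e with
  | zero => simpa using Real.one
  | succ e ih =>
    rw [pow_succ']
    intro d hd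
    have := Real.mul (X_real hj) ih d hd
    show force (Nat.rec d (fun _ a => force a (tperm j)) e) (tperm j) < np ∧
      act (X j * X j ^ e) (pt d) = pt (force (Nat.rec d (fun _ a => force a (tperm j)) e) (tperm j))
    rw [force_eq]
    exact this

theorem Real_Pel : ∀ j ≤ 13, ∀ i, Real (Pel j i) (pev j i) := by
  intro j
  induction j with
  | zero => intro _ i; exact Real.one
  | succ j ih =>
    intro hj i d hd
    exact Real.mul (Real_pow (Nat.lt_of_succ_le hj) (digit i j)) (ih (Nat.le_of_succ_le hj) i) d hd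

theorem digit_eq (i j : ℕ) : digit i j = i / 3 ^ j % 3 := rfl

theorem Pel_zero : ∀ j, Pel j 0 = 1 := by
  intro j
  induction j with
  | zero => rfl
  | succ j ih =>
    show X j ^ digit 0 j * Pel j 0 = 1
    rw [ih, mul_one, show digit 0 j = 0 from (by simp : 0 / 3 ^ j % 3 = 0), pow_zero]

theorem Pel_congr {i i' : ℕ} : ∀ j, (∀ m < j, digit i m = digit i' m) → Pel j i = Pel j i' := by
  intro j
  induction j with
  | zero => intro _; rfl
  | succ j ih =>
    intro h
    show X j ^ digit i j * Pel j i = X j ^ digit i' j * Pel j i'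
    rw [h j (Nat.lt_succ_self j), ih fun m hm => h m (Nat.lt_succ_of_lt hm)]

theorem digit_high {a i : ℕ} {j m : ℕ} (hm : j ≤ m) (ha : a < 3 ^ j) : digit (i * 3 ^ j + a) m = digit (i * 3 ^ j) m := by
  obtain ⟨c, rfl⟩ := Nat.exists_eq_add_of_le hm
  simp only [digit_eq, pow_add, ← Nat.div_div_eq_div_mul]
  rw [Nat.add_comm, Nat.add_mul_div_right _ _ (by positivity), Nat.div_eq_of_lt ha, Nat.zero_add,
    Nat.mul_div_cancel _ (by positivity)]

theorem digit_low {a i : ℕ} {j m : ℕ} (hm : m < j) : digit (i * 3 ^ j + a) m = digit a m := by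
  obtain ⟨c, rfl⟩ : ∃ c, j = m + 1 + c := ⟨j - m - 1, by omega⟩
  simp only [digit_eq]
  rw [Nat.add_comm, show i * 3 ^ (m + 1 + c) = i * 3 ^ c * 3 * 3 ^ m by ring, Nat.add_mul_div_right _ _ (by positivity),
    Nat.add_mul_mod_self_right]

/-- A product splits at every level. -/
theorem Pel_split {j a : ℕ} (ha : a < 3 ^ j) (i : ℕ) :
    ∀ n, j ≤ n → Pel n (i * 3 ^ j + a) = Pel n (i * 3 ^ j) * Pel j a := by
  intro n
  induction n with
  | zero =>
    intro hn
    obtain rfl : j = 0 := Nat.le_zero.mp hn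
    simp [Pel]
  | succ n ih =>
    intro hn
    rcases Nat.eq_or_lt_of_le hn with e | e
    · have hb : Pel j (i * 3 ^ j) = 1 := by
        rw [Pel_congr (i' := 0) j fun m hm => ?_, Pel_zero]
        have := digit_low (a := 0) (i := i) hm
        simpa using this
      rw [← e, hb, one_mul]
      exact Pel_congr _ fun m hm => digit_low hm
    · have hjn := Nat.lt_succ_iff.mp e
      show X n ^ _ * Pel n _ = X n ^ _ * Pel n _ * Pel j a
      rw [ih hjn, mul_assoc, digit_high hjn ha]

theorem Pel_step {j n : ℕ} (h : j < n) {e : ℕ} (he : e < 3) : Pel n (e * 3 ^ j) = X j ^ e := by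
  induction n with
  | zero => omega
  | succ n ih =>
    show X n ^ digit (e * 3 ^ j) n * Pel n (e * 3 ^ j) = _
    rcases Nat.lt_succ_iff_lt_or_eq.mp h with h' | rfl
    · have : digit (e * 3 ^ j) n = 0 := by
        obtain ⟨c, rfl⟩ : ∃ c, n = j + 1 + c := ⟨n - j - 1, by omega⟩
        rw [digit_eq, show 3 ^ (j + 1 + c) = 3 ^ j * (3 * 3 ^ c) by ring, ← Nat.div_div_eq_div_mul,
          Nat.mul_div_cancel _ (by positivity), Nat.div_eq_of_lt (lt_of_lt_of_le he (Nat.le_mul_of_pos_right 3 (Nat.pow_pos (by norm_num)))), Nat.zero_mod]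
      rw [this, pow_zero, one_mul, ih h']
    · have h0 : Pel j (e * 3 ^ j) = 1 := by
        rw [Pel_congr (i' := 0) j fun m hm => ?_, Pel_zero]
        have := digit_low (a := 0) (i := e) hm
        simpa using this
      rw [h0, mul_one, digit_eq, Nat.mul_div_cancel _ (by positivity), Nat.mod_eq_of_lt he]

/-- The checks of the sequence at the step `j`. -/
noncomputable def okStep (j : ℕ) : Bool :=
  allN j (fun m => force ((pcData.getD j []).getD m 0) fun a => Nat.blt a (Nat.pow 3 j) &&
    bpos.all fun b => Nat.beq (tperm m (tperm j b)) (tperm j (pev j a b))) &&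
  (force ((pcData.getD j []).getD j 0) fun a => Nat.blt a (Nat.pow 3 j) &&
    bpos.all fun b => Nat.beq (tperm j (tperm j (tperm j b))) (pev j a b))

theorem steps_ok : allN 13 okStep = true := by decide +kernel

theorem step_spec {j : ℕ} (hj : j < 13) :
    (∀ m < j, ∃ a < 3 ^ j, X m * X j = X j * Pel j a) ∧ (∃ a < 3 ^ j, X j ^ 3 = Pel j a) := by
  have h := allN_spec steps_ok j hj
  simp only [okStep, Bool.and_eq_true] at h
  obtain ⟨h1, h2⟩ := h
  refine ⟨fun m hm => ?_, ?_⟩
  · have := allN_spec h1 m hm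
    simp only [force_eq, Bool.and_eq_true, blt_iff, List.all_eq_true] at this
    exact ⟨_, this.1, ext_pos (Real.mul (X_real (hm.trans hj)) (X_real hj)) (Real.mul (X_real hj) (Real_Pel j hj.le _))
      fun b hb => Nat.eq_of_beq_eq_true (this.2 b hb)⟩
  · simp only [force_eq, Bool.and_eq_true, blt_iff, List.all_eq_true] at h2
    refine ⟨_, h2.1, ext_pos (Real_pow hj 3) (Real_Pel j hj.le _) fun b hb => ?_⟩
    show force (force (force b (tperm j)) (tperm j)) (tperm j) = _
    rw [force_eq, force_eq, force_eq]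
    exact Nat.eq_of_beq_eq_true (h2.2 b hb)

/-- The orbit separating a member from the earlier ones. -/
noncomputable def okSep (j : ℕ) : Bool :=
  force ((sepData.getD j []).getD 0 0) fun b =>
    ((sepData.getD j []).tail).any (fun p => Nat.beq p b) &&
    ((sepData.getD j []).tail).all (fun p => !Nat.beq p (tperm j b) && Nat.blt p np &&
      allN j fun m => ((sepData.getD j []).tail).any fun q => Nat.beq q (tperm m p))

theorem sep_ok : allN 13 okSep = true := by decide +kernel

/-- The group of the first members. -/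
noncomputable def H (j : ℕ) : Subgroup K := Subgroup.closure (X '' Set.Iio j)

theorem H_mono {i j : ℕ} (h : i ≤ j) : H i ≤ H j :=
  Subgroup.closure_mono (Set.image_mono (Set.Iio_subset_Iio h))

theorem X_mem {m j : ℕ} (h : m < j) : X m ∈ H j :=
  Subgroup.subset_closure (Set.mem_image_of_mem X (show m ∈ Set.Iio j from h))

theorem Pel_mem : ∀ j i, Pel j i ∈ H j := by
  intro j
  induction j with
  | zero => intro i; exact one_mem _
  | succ j ih =>
    intro i
    exact mul_mem (pow_mem (X_mem (Nat.lt_succ_self j)) _) (H_mono (Nat.le_succ j) (ih i))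

theorem mem_submonoid {j : ℕ} {g : K} (hg : g ∈ H j) : g ∈ Submonoid.closure (X '' Set.Iio j) := by
  have := finiteK
  rw [← Subgroup.closure_toSubmonoid_of_finite]
  exact hg

theorem X_notMem {j : ℕ} (hj : j < 13) : X j ∉ H j := by
  intro hmem
  have h := allN_spec sep_ok j hj
  simp only [okSep, force_eq, Bool.and_eq_true, List.all_eq_true, List.any_eq_true, Bool.not_eq_true', blt_iff] at h
  obtain ⟨⟨b, hb, hbe⟩, hall⟩ := h
  rw [Nat.eq_of_beq_eq_true hbe] at hb
  set L := (sepData.getD j []).tail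
  have key : ∀ g ∈ Submonoid.closure (X '' Set.Iio j), ∀ p ∈ L, ∃ q ∈ L, act g (pt p) = pt q := by
    intro g hg
    induction hg using Submonoid.closure_induction with
    | mem x hx =>
      obtain ⟨m, hm, rfl⟩ := hx
      intro p hp
      obtain ⟨q, hq, e⟩ := List.any_eq_true.mp (allN_spec (hall p hp).2 m hm)
      exact ⟨q, hq, by rw [(X_real (hm.trans hj) p (hall p hp).1.2).2, Nat.eq_of_beq_eq_true e]⟩
    | one => intro p hp; exact ⟨p, hp, act_one _⟩
    | mul x y _ _ ihx ihy =>
      intro p hp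
      obtain ⟨q, hq, e⟩ := ihy p hp
      obtain ⟨r, hr, e'⟩ := ihx q hq
      exact ⟨r, hr, by rw [act_mul, e, e']⟩
  obtain ⟨q, hq, e⟩ := key _ (mem_submonoid hmem) _ hb
  have hr := X_real hj _ (hall _ hb).1.2
  rw [hr.2] at e
  have h2 := (hall q hq).1.1
  rw [pt_inj hr.1 (hall q hq).1.2 e] at h2
  simp at h2

theorem hswap {j : ℕ} (hj : j < 13) : ∀ h ∈ H j, (X j)⁻¹ * h * X j ∈ H j := by
  have hle : H j ≤ (H j).comap (MulAut.conj (X j)⁻¹).toMonoidHom := by
    refine (Subgroup.closure_le _).mpr ?_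
    rintro _ ⟨m, hm, rfl⟩
    obtain ⟨a, -, ha⟩ := (step_spec hj).1 m hm
    show (X j)⁻¹ * X m * (X j)⁻¹⁻¹ ∈ H j
    rw [inv_inv, mul_assoc, ha, inv_mul_cancel_left]
    exact Pel_mem j a
  intro h hh
  have := hle hh
  rwa [Subgroup.mem_comap, MulEquiv.coe_toMonoidHom, MulAut.conj_apply, inv_inv] at this

theorem hswap_pow {j : ℕ} (hj : j < 13) : ∀ e : ℕ, ∀ h ∈ H j, ∃ h' ∈ H j, h * X j ^ e = X j ^ e * h' := by
  intro e
  induction e with
  | zero => exact fun h hh => ⟨h, hh, by simp⟩
  | succ e ihe =>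
    intro h hh
    obtain ⟨h', hh', e'⟩ := ihe h hh
    exact ⟨(X j)⁻¹ * h' * X j, hswap hj h' hh', by rw [pow_succ, ← mul_assoc, e']; group⟩

theorem decomp {j : ℕ} (hj : j < 13) {g : K} (hg : g ∈ H (j + 1)) : ∃ e < 3, ∃ h ∈ H j, g = X j ^ e * h := by
  obtain ⟨a3, -, hcube⟩ := (step_spec hj).2
  have hx3 : X j ^ 3 ∈ H j := hcube ▸ Pel_mem j a3
  have hg' := mem_submonoid hg
  clear hg
  induction hg' using Submonoid.closure_induction_left with
  | one => exact ⟨0, by norm_num, 1, one_mem _, by simp⟩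
  | mul_left s hs g _ ihg =>
    obtain ⟨e, he, h, hh, rfl⟩ := ihg
    obtain ⟨m, hm, rfl⟩ := hs
    rcases Nat.lt_succ_iff_lt_or_eq.mp hm with hm' | rfl
    · obtain ⟨h', hh', e'⟩ := hswap_pow hj e _ (X_mem hm')
      exact ⟨e, he, h' * h, mul_mem hh' hh, by rw [← mul_assoc, e', mul_assoc]⟩
    · rcases Nat.lt_or_ge (e + 1) 3 with he' | he'
      · exact ⟨e + 1, he', h, hh, by rw [← mul_assoc, ← pow_succ']⟩
      · have e2 : e = 2 := by omega
        subst e2
        exact ⟨0, by norm_num, X m ^ 3 * h, mul_mem hx3 hh, by rw [pow_zero, one_mul, ← mul_assoc, ← pow_succ']⟩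

theorem H_spec : ∀ j ≤ 13, (∀ g ∈ H j, ∃ i < 3 ^ j, Pel j i = g) ∧ Nat.card (H j) = 3 ^ j := by
  have := finiteK
  intro j
  induction j with
  | zero =>
    intro _
    have e : H 0 = ⊥ := by simp [H]
    rw [e]
    exact ⟨fun g hg => ⟨0, by norm_num, (Subgroup.mem_bot.mp hg).symm⟩, by simp⟩
  | succ j ih =>
    intro hj
    have hj13 : j < 13 := Nat.lt_of_succ_le hj
    obtain ⟨ihm, ihc⟩ := ih hj13.le
    obtain ⟨a3, -, hcube⟩ := (step_spec hj13).2
    set x := X j with hx
    have hx3 : x ^ 3 ∈ H j := hcube ▸ Pel_mem j a3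
    have hnot : x ∉ H j := X_notMem hj13
    refine ⟨fun g hg => ?_, ?_⟩
    · obtain ⟨e, he, h, hh, rfl⟩ := decomp hj13 hg
      obtain ⟨a, ha, rfl⟩ := ihm h hh
      refine ⟨e * 3 ^ j + a, ?_, ?_⟩
      · rw [pow_succ]; nlinarith
      · rw [Pel_split ha e (j + 1) (Nat.le_succ j), Pel_step (Nat.lt_succ_self j) he]
    · have hbij : Function.Bijective (fun p : Fin 3 × H j =>
          (⟨x ^ (p.1 : ℕ) * p.2, mul_mem (pow_mem (X_mem (Nat.lt_succ_self j)) _) (H_mono (Nat.le_succ j) p.2.2)⟩ : H (j + 1))) := by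
        constructor
        · rintro ⟨a, h⟩ ⟨b, h'⟩ e
          have e' : x ^ (a : ℕ) * (h : K) = x ^ (b : ℕ) * (h' : K) := congrArg Subtype.val e
          have key : ∀ (a b : ℕ) (h h' : H j), a < b → b < 3 → x ^ a * (h : K) ≠ x ^ b * (h' : K) := by
            intro a b h h' hab hb q
            have q' : x ^ (b - a) ∈ H j := by
              have : x ^ (b - a) = (h : K) * (h' : K)⁻¹ := by
                rw [eq_mul_inv_iff_mul_eq]
                refine mul_left_cancel (a := x ^ a) ?_
                rw [← mul_assoc, ← pow_add, Nat.add_sub_cancel' hab.le, q]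
              rw [this]; exact mul_mem h.2 (inv_mem h'.2)
            rcases (by omega : b - a = 1 ∨ b - a = 2) with r | r <;> rw [r] at q'
            · exact hnot (by simpa using q')
            · apply hnot
              rw [show x = x ^ 3 * (x ^ 2)⁻¹ by rw [pow_succ' x 2, mul_inv_cancel_right]]
              exact mul_mem hx3 (inv_mem q')
          rcases lt_trichotomy (a : ℕ) (b : ℕ) with r | r | r
          · exact absurd e' (key _ _ _ _ r b.2)
          · have ab : a = b := Fin.ext r
            subst ab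
            exact Prod.ext rfl (Subtype.ext (mul_left_cancel e'))
          · exact absurd e'.symm (key _ _ _ _ r a.2)
        · rintro ⟨g, hg⟩
          obtain ⟨e, he, h, hh, rfl⟩ := decomp hj13 hg
          exact ⟨(⟨e, he⟩, ⟨h, hh⟩), rfl⟩
      rw [← Nat.card_congr (Equiv.ofBijective _ hbij), Nat.card_prod, Nat.card_fin, ihc, pow_succ, mul_comm]

/-- The Sylow subgroup. -/
noncomputable def S3 : Sylow 3 K :=
  haveI := finiteK
  (IsPGroup.of_card (H_spec 13 le_rfl).2).toSylow (by
    intro h
    have e := (H 13).index_mul_card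
    rw [(H_spec 13 le_rfl).2, cardK] at e
    omega)

theorem S3_eq : (S3 : Subgroup K) = H 13 := rfl

end CfsgLib.CosetEnum.Fi23Three
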