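/-
Every element of order three of the presented Fi23 fixes a point.
-/
import Cfsg.Agent.Lib.CosetEnum.Fi23Three.Sylow
import Cfsg.Agent.Lib.CosetEnum.Fi23Three.LevelData
import Cfsg.Agent.Lib.CosetEnum.Fi23Three.Points

set_option autoImplicit false
set_option maxRecDepth 1000000

namespace CfsgLib.CosetEnum.Fi23Three

open CfsgLib.CosetEnum

theorem Pel_low {j a : ℕ} (ha : a < 3 ^ j) {n : ℕ} (hn : j ≤ n) : Pel n a = Pel j a := by
  have := Pel_split ha 0 n hn
  rwa [zero_mul, zero_add, Pel_zero, one_mul] at this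

theorem H13_spec {g : K} : g ∈ H 13 ↔ ∃ i < 3 ^ 13, Pel 13 i = g :=
  ⟨fun h => (H_spec 13 le_rfl).1 g h, fun ⟨i, _, e⟩ => e ▸ Pel_mem 13 i⟩

theorem Pel_inj {i i' : ℕ} (hi : i < 3 ^ 13) (hi' : i' < 3 ^ 13) (h : Pel 13 i = Pel 13 i') : i = i' := by
  have := finiteK
  let f : Fin (3 ^ 13) → H 13 := fun i => ⟨Pel 13 i, Pel_mem 13 i⟩
  have hs : Function.Surjective f := fun g => by
    obtain ⟨i, hi, e⟩ := H13_spec.mp g.2
    exact ⟨⟨i, hi⟩, Subtype.ext e⟩
  have hb : Function.Bijective f := (Nat.bijective_iff_surjective_and_card f).mpr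
    ⟨hs, by rw [Nat.card_fin, (H_spec 13 le_rfl).2]⟩
  exact congrArg Fin.val (hb.1 (show f ⟨i, hi⟩ = f ⟨i', hi'⟩ from Subtype.ext h))

theorem low_of_mem {j q : ℕ} (hj : j ≤ 13) (hq : q < 3 ^ 13) (h : Pel 13 q ∈ H j) : q < 3 ^ j := by
  obtain ⟨i, hi, e⟩ := (H_spec j hj).1 _ h
  rw [← Pel_low hi hj] at e
  exact Pel_inj (hi.trans_le (Nat.pow_le_pow_right (by norm_num) hj)) hq e ▸ hi

/-- The series is central. -/
noncomputable def okCentral : Bool :=
  allN 13 fun m => allN m fun l => Nat.blt ((pcData.getD m []).getD l 0) (Nat.pow 3 (Nat.succ l)) &&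
    bpos.all fun b => Nat.beq (tperm l (tperm m b)) (tperm m (pev m ((pcData.getD m []).getD l 0) b))

theorem central_ok : okCentral = true := by decide +kernel

theorem X_conj_mem {j : ℕ} (hj : j ≤ 13) {m : ℕ} (hm : m < 13) : ∀ h ∈ H j, (X m)⁻¹ * h * X m ∈ H j := by
  rcases Nat.lt_or_ge m j with hmj | hmj
  · intro h hh
    exact mul_mem (mul_mem (inv_mem (X_mem hmj)) hh) (X_mem hmj)
  have hle : H j ≤ (H j).comap (MulAut.conj (X m)⁻¹).toMonoidHom := by
    refine (Subgroup.closure_le _).mpr ?_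
    rintro _ ⟨l, hl, rfl⟩
    have hl' : l < j := hl
    have hlm : l < m := lt_of_lt_of_le hl' hmj
    have h := allN_spec (allN_spec central_ok m hm) l hlm
    simp only [Bool.and_eq_true, blt_iff, List.all_eq_true] at h
    have e : X l * X m = X m * Pel m ((pcData.getD m []).getD l 0) :=
      ext_pos (Real.mul (X_real (hlm.trans hm)) (X_real hm)) (Real.mul (X_real hm) (Real_Pel m hm.le _))
        fun b hb => Nat.eq_of_beq_eq_true (h.2 b hb)
    show (X m)⁻¹ * X l * (X m)⁻¹⁻¹ ∈ H j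
    rw [inv_inv, mul_assoc, e, inv_mul_cancel_left, Pel_low (lt_of_lt_of_le h.1 le_rfl) hlm]
    exact H_mono hl' (Pel_mem _ _)
  intro h hh
  have := hle hh
  rwa [Subgroup.mem_comap, MulEquiv.coe_toMonoidHom, MulAut.conj_apply, inv_inv] at this

theorem conj_mem {j : ℕ} (hj : j ≤ 13) {g : K} (hg : g ∈ H 13) {h : K} (hh : h ∈ H j) : g * h * g⁻¹ ∈ H j := by
  have key : ∀ g ∈ Submonoid.closure (X '' Set.Iio 13), ∀ h ∈ H j, g⁻¹ * h * g ∈ H j := by
    intro g hg
    induction hg using Submonoid.closure_induction with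
    | mem x hx => obtain ⟨m, hm, rfl⟩ := hx; exact X_conj_mem hj hm
    | one => intro h hh; simpa using hh
    | mul x y _ _ ihx ihy =>
      intro h hh
      have := ihy _ (ihx h hh)
      rwa [show y⁻¹ * (x⁻¹ * h * x) * y = (x * y)⁻¹ * h * (x * y) by group] at this
  simpa using key g⁻¹ (mem_submonoid (inv_mem hg)) h hh

/-- The check of one step at level `j`. -/
noncomputable def okEntry (j c : ℕ) (t : ℕ × ℕ × ℕ × ℕ) : Bool :=
  force t.2.1 fun a => Nat.blt a (Nat.pow 3 13) &&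
    Bool.rec
      (Nat.ble (Nat.pow 3 j) a &&
        bpos.all fun b => Nat.beq (pev 13 c (pev 13 c (pev 13 c b))) (pev 13 a b))
      (force t.2.2.1 fun k => Nat.blt k (rootsAll.getD j []).length && force ((rootsAll.getD j []).getD k 0) fun r =>
        force t.2.2.2 fun low => Nat.blt low (Nat.pow 3 j) &&
          bpos.all fun b => Nat.beq (pev 13 a (pev 13 c b)) (pev 13 r (pev 13 low (pev 13 a b))))
      (Nat.beq t.1 0)

/-- The checks at level `j`. -/
noncomputable def okLevel (j : ℕ) : Bool :=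
  allN (rootsAll.getD (Nat.succ j) []).length fun k' => force k' fun k =>
    force ((rootsAll.getD (Nat.succ j) []).getD k 0) fun r =>
      Nat.blt r (Nat.pow 3 13) && Nat.beq (Nat.mod r (Nat.pow 3 (Nat.succ j))) 0 &&
      allN 3 fun e' => force e' fun e => force (Nat.add r (Nat.mul e (Nat.pow 3 j))) fun c =>
        okEntry j c ((stepsAll.getD j []).getD (Nat.add (Nat.mul 3 k) e) (1, 0, 0, 0))

theorem level_ok : allN 13 okLevel = true := by decide +kernel

/-- The check of the final roots. -/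
noncomputable def okFinal : Bool :=
  allN roots0.length fun k' => force k' fun k => force (roots0.getD k 0) fun r =>
    Nat.beq r 0 || force (fixedPos.getD k 0) fun p => Nat.blt p np && Nat.beq (pev 13 r p) p

theorem final_ok : okFinal = true := by decide +kernel

theorem descent {y : K} (hy : y ∈ H 13) (h3 : y ^ 3 = 1) : ∀ j ≤ 13,
    ∃ r ∈ rootsAll.getD j [], ∃ c ∈ H 13, ∃ a ∈ H j, c * y * c⁻¹ = Pel 13 r * a := by
  intro j hj
  induction hj using Nat.decreasingInduction with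
  | self =>
    exact ⟨0, by simp [rootsAll, roots13], 1, one_mem _, y, hy, by simp [Pel_zero]⟩
  | of_succ j hj13 ih =>
    obtain ⟨r, hr, c, hc, a, ha, e⟩ := ih
    obtain ⟨k, hk, rfl⟩ := List.getElem_of_mem hr
    obtain ⟨ex, hex, a', ha', rfl⟩ := decomp hj13 ha
    have h := allN_spec (allN_spec level_ok j hj13) k hk
    simp only [force_eq, Bool.and_eq_true, blt_iff, List.getD_eq_getElem _ _ hk] at h
    obtain ⟨⟨hr13, hrmod⟩, hall⟩ := h
    have hent := allN_spec hall ex hex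
    beta_reduce at hent
    set r := (rootsAll.getD (j + 1) [])[k]
    set c0 := Nat.add r (Nat.mul ex (Nat.pow 3 j)) with hc0
    obtain ⟨i, hi⟩ : ∃ i, r = i * 3 ^ (j + 1) :=
      ⟨r / 3 ^ (j + 1), (Nat.div_mul_cancel (Nat.dvd_of_mod_eq_zero (Nat.eq_of_beq_eq_true hrmod))).symm⟩
    have ec0 : Pel 13 c0 = Pel 13 r * X j ^ ex := by
      have hlt : ex * 3 ^ j < 3 ^ (j + 1) := by
        rw [pow_succ']; exact Nat.mul_lt_mul_of_pos_right hex (Nat.pow_pos (by norm_num))
      show Pel 13 (r + ex * 3 ^ j) = _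
      rw [hi, Pel_split hlt i 13 (Nat.succ_le_of_lt hj13), Pel_step (Nat.lt_succ_self j) hex]
    rw [← mul_assoc, ← ec0] at e
    have hP : Pel 13 c0 ∈ H 13 := Pel_mem 13 c0
    simp only [okEntry, force_eq, Bool.and_eq_true, blt_iff] at hent
    obtain ⟨ha13, hent⟩ := hent
    set t := (stepsAll.getD j []).getD (Nat.add (Nat.mul 3 k) ex) (1, 0, 0, 0)
    cases htag : Nat.beq t.1 0
    · exfalso
      simp only [htag, Bool.and_eq_true, List.all_eq_true] at hent
      obtain ⟨hge, hpos⟩ := hent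
      have hcube : (Pel 13 c0 * a') ^ 3 = 1 := by rw [← e, conj_pow, h3, mul_one, mul_inv_cancel]
      have hmem : Pel 13 c0 ^ 3 ∈ H j := by
        set g := Pel 13 c0
        have h1 : g * a' * g⁻¹ ∈ H j := conj_mem hj13.le hP ha'
        have h2 : g * g * a' * (g * g)⁻¹ ∈ H j := conj_mem hj13.le (mul_mem hP hP) ha'
        have h4 : g * g * g * a' * (g * g * g)⁻¹ ∈ H j := conj_mem hj13.le (mul_mem (mul_mem hP hP) hP) ha'
        have e3 : g ^ 3 = ((g * a' * g⁻¹) * (g * g * a' * (g * g)⁻¹) * (g * g * g * a' * (g * g * g)⁻¹))⁻¹ *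
            (g * a') ^ 3 := by
          rw [eq_inv_mul_iff_mul_eq]
          simp only [pow_succ, pow_zero, one_mul, mul_assoc, mul_inv_rev, inv_mul_cancel_left, mul_inv_cancel_left,
            inv_mul_cancel, mul_inv_cancel, mul_one]
        rw [e3, hcube, mul_one]
        exact inv_mem (mul_mem (mul_mem h1 h2) h4)
      have eq : Pel 13 c0 ^ 3 = Pel 13 t.2.1 := by
        rw [show Pel 13 c0 ^ 3 = Pel 13 c0 * (Pel 13 c0 * Pel 13 c0) by simp [pow_succ, mul_assoc]]
        exact ext_pos (Real.mul (Real_Pel 13 le_rfl c0) (Real.mul (Real_Pel 13 le_rfl c0) (Real_Pel 13 le_rfl c0)))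
          (Real_Pel 13 le_rfl _) fun b hb => Nat.eq_of_beq_eq_true (hpos b hb)
      have := low_of_mem hj13.le ha13 (eq ▸ hmem)
      exact absurd (Nat.ble_eq.mp hge) (Nat.not_le.mpr this)
    · simp only [htag, Bool.and_eq_true, List.all_eq_true, blt_iff] at hent
      obtain ⟨hk', hlow, hpos⟩ := hent
      set r' := (rootsAll.getD j []).getD t.2.2.1 0
      set ci := Pel 13 t.2.1
      have eq : ci * Pel 13 c0 = Pel 13 r' * (Pel 13 t.2.2.2 * ci) :=
        ext_pos (Real.mul (Real_Pel 13 le_rfl _) (Real_Pel 13 le_rfl _))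
          (Real.mul (Real_Pel 13 le_rfl _) (Real.mul (Real_Pel 13 le_rfl _) (Real_Pel 13 le_rfl _)))
          fun b hb => Nat.eq_of_beq_eq_true (hpos b hb)
      refine ⟨r', by rw [show r' = _ from List.getD_eq_getElem _ _ hk']; exact List.getElem_mem hk', ci * c,
        mul_mem (Pel_mem 13 _) hc, Pel j t.2.2.2 * (ci * a' * ci⁻¹),
        mul_mem (Pel_mem j _) (conj_mem hj13.le (Pel_mem 13 _) ha'), ?_⟩
      rw [← Pel_low hlow hj13.le]
      calc ci * c * y * (ci * c)⁻¹ = ci * (c * y * c⁻¹) * ci⁻¹ := by group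
        _ = (ci * Pel 13 c0) * (a' * ci⁻¹) := by rw [e]; group
        _ = _ := by rw [eq]; group

/-- An element of order three in the Sylow subgroup fixes a point. -/
theorem fix_of_mem {y : K} (hy : y ∈ H 13) (h3 : orderOf y = 3) : ∃ d < 31671, act y d = d := by
  obtain ⟨r, hr, c, -, a, ha, e⟩ := descent hy (by rw [← h3, pow_orderOf_eq_one]) 0 (by norm_num)
  obtain ⟨k, hk, rfl⟩ := List.getElem_of_mem hr
  have ha1 : a = 1 := by simpa [H] using ha
  rw [ha1, mul_one] at e
  have hk0 : k < roots0.length := hk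
  have h := allN_spec final_ok k hk0
  simp only [force_eq, Bool.or_eq_true, Bool.and_eq_true, blt_iff, List.getD_eq_getElem _ _ hk0] at h
  change c * y * c⁻¹ = Pel 13 roots0[k] at e
  rcases h with h | ⟨hp, hfix⟩
  · rw [Nat.eq_of_beq_eq_true h, Pel_zero, mul_inv_eq_one, mul_eq_left] at e
    rw [e, orderOf_one] at h3
    omega
  · set q := pt (fixedPos.getD k 0)
    have hR := (Real_Pel 13 le_rfl roots0[k] _ hp).2
    rw [Nat.eq_of_beq_eq_true hfix, ← e, act_mul, act_mul] at hR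
    refine ⟨act c⁻¹ q, act_lt _ (pt_spec hp).1, act_injective c ?_⟩
    rw [hR, act_act_inv]

/-- Every element of order three commutes with a transposition. -/
theorem exists_commute {x : K} (hx : orderOf x = 3) : ∃ d ∈ conjugatesOf tz, Commute x d := by
  have := finiteK
  have hP : IsPGroup 3 (Subgroup.zpowers x) := IsPGroup.of_card (n := 1) (by rw [Nat.card_zpowers, hx, pow_one])
  obtain ⟨P, hle⟩ := hP.exists_le_sylow
  obtain ⟨c, hc⟩ := MulAction.exists_smul_eq K P S3
  have hcy : c * x * c⁻¹ ∈ H 13 := by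
    rw [← S3_eq, ← hc]
    exact ⟨x, hle (Subgroup.mem_zpowers x), rfl⟩
  obtain ⟨d, hd, e⟩ := fix_of_mem hcy (by rw [← MulAut.conj_apply, MulEquiv.orderOf_eq, hx])
  rw [act_mul, act_mul] at e
  have hlt := act_lt c⁻¹ hd
  refine ⟨dt (act c⁻¹ d), dt_mem _, (commute_dt hlt).mpr (act_injective c ?_)⟩
  rw [e, act_act_inv]

end CfsgLib.CosetEnum.Fi23Three
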