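/-
The checks on the fixed points of three elements of order three of Fi23.
-/
import Cfsg.Agent.Lib.CosetEnum.Fi23Class.Data
import Cfsg.Agent.Lib.CosetEnum.Fi31671.Data
import Cfsg.Agent.Lib.CosetEnum.Fi23Three.WidthData

set_option autoImplicit false
set_option maxRecDepth 1000000

namespace CfsgLib.CosetEnum.Fi23Three

open CfsgLib.CosetEnum

/-- The reversed word of an element. -/
noncomputable def rootR (k : ℕ) : List ℕ := (rootW.getD k []).reverse

/-- The fixed points of an element. -/
noncomputable def fp (k : ℕ) : List ℕ := fixPts.getD k []

/-- The position pattern: the member `j` commutes with the member `i`. -/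
noncomputable def padj (k i j : ℕ) : Bool := Nat.testBit ((fixRows.getD k []).getD i 0) j

/-- A fixed point is in the list. -/
noncomputable def okFix (k lo m : ℕ) : Bool :=
  allN m fun i => force (Nat.add lo i) fun d =>
    !(Nat.beq (runT Fi31671.table (nat_lit 10) (rootR k) d) d) || (fp k).any (Nat.beq d)

/-- The word reaching a fixed point is right. -/
noncomputable def okPointW (k i' : ℕ) : Bool :=
  force i' fun i => force ((fp k).getD i 0) fun d => Nat.blt d 31671 &&
    Nat.beq (runT Fi31671.table (nat_lit 10) (rootR k) d) d &&
    ((fixWords.getD k []).getD i []).all (fun x => Nat.blt x 10) &&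
    Nat.beq (runT Fi31671.table (nat_lit 10) ((fixWords.getD k []).getD i []) d) 0

/-- The pattern of one fixed point up to the diagonal is right. -/
noncomputable def okRowW (k lo m : ℕ) : Bool :=
  allN m fun i' => force (Nat.add lo i') fun i => allN (Nat.succ i) fun j' => force j' fun j =>
    force (runT Fi31671.table (nat_lit 10) ((fixWords.getD k []).getD i []) ((fp k).getD j 0)) fun q =>
      (Nat.beq (Fi23Class.zf q) q == padj k i j) && (padj k j i == padj k i j)

/-- There is no set of the given size in a list with all pairs in the relation. -/
noncomputable def noClique (r : ℕ → ℕ → Bool) (n : ℕ) : List ℕ → Bool :=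
  Nat.rec (fun _ => false)
    (fun _ ih L => List.rec (motive := fun _ => Bool) true (fun v rest acc => ih (rest.filter (r v)) && acc) L) n

/-- The width of an element. -/
def wid : List ℕ := [5, 4, 1]

/-- A largest commuting set. -/
noncomputable def okClique (k : ℕ) : Bool :=
  Nat.beq (fixCliques.getD k []).length (wid.getD k 0) &&
    (fixCliques.getD k []).all fun i => Nat.blt i (fp k).length &&
      (fixCliques.getD k []).all fun j => padj k i j && (Nat.beq i j || !Nat.beq ((fp k).getD i 0) ((fp k).getD j 0))

end CfsgLib.CosetEnum.Fi23Three
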