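/-
Checks on the fixed points of three elements of order three of Fi23.
-/
import Cfsg.Agent.Lib.CosetEnum.Fi23Three.WidthDefs

set_option autoImplicit false
set_option maxRecDepth 1000000

namespace CfsgLib.CosetEnum.Fi23Three

theorem fix0_ok : okFix 0 0 31671 = true := by decide +kernel
theorem fix2_ok : okFix 2 0 31671 = true := by decide +kernel
theorem fix1a_ok : okFix 1 0 10000 = true := by decide +kernel
theorem fix1b_ok : okFix 1 10000 10000 = true := by decide +kernel
theorem fix1c_ok : okFix 1 20000 11671 = true := by decide +kernel
theorem point_ok : allN 3 (fun k => allN (fp k).length (okPointW k)) = true := by decide +kernel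
theorem row0_ok : okRowW 0 0 135 = true := by decide +kernel
theorem row2_ok : okRowW 2 0 27 = true := by decide +kernel
theorem row1a_ok : okRowW 1 0 200 = true := by decide +kernel
theorem row1b_ok : okRowW 1 200 124 = true := by decide +kernel
theorem clique_ok : allN 3 okClique = true := by decide +kernel
theorem noClique0 : noClique (padj 0) 6 (List.range 135) = true := by decide +kernel
theorem noClique1 : noClique (padj 1) 5 (List.range 324) = true := by decide +kernel
theorem noClique2 : noClique (padj 2) 2 (List.range 27) = true := by decide +kernel
theorem cliques_nodup : ∀ k < 3, (fixCliques.getD k []).Nodup := by decide +kernel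
theorem fp_len : (fp 0).length = 135 ∧ (fp 1).length = 324 ∧ (fp 2).length = 27 := by decide +kernel

end CfsgLib.CosetEnum.Fi23Three
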