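/-
The largest commuting sets of transpositions centralising three elements of order three of Fi23.
-/
import Cfsg.Agent.Lib.CosetEnum.Fi23Three.WidthChecks
import Cfsg.Agent.Lib.CosetEnum.Fi23Three.Points
import Cfsg.Prelude.Def_FischerSpaces

set_option autoImplicit false
set_option maxRecDepth 1000000

namespace CfsgLib.CosetEnum.Fi23Three

open CfsgLib.CosetEnum

theorem noClique_sound (r : ℕ → ℕ → Bool) : ∀ (n : ℕ) (L : List ℕ), noClique r n L = true →
    ∀ s : Finset ℕ, (∀ x ∈ s, x ∈ L) → (∀ x ∈ s, ∀ y ∈ s, r x y = true) → s.card < n := by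
  intro n
  induction n with
  | zero => intro L h; cases L <;> exact absurd h (by simp [noClique])
  | succ n ih =>
    intro L
    induction L with
    | nil =>
      intro _ s hs _
      rw [Finset.eq_empty_of_forall_notMem fun x hx => List.not_mem_nil (hs x hx)]
      simp
    | cons v rest ihr =>
      intro h s hs hr
      have h' : noClique r n (rest.filter (r v)) = true ∧ noClique r (n + 1) rest = true := Bool.and_eq_true_iff.mp h
      by_cases hv : v ∈ s
      · have := ih _ h'.1 (s.erase v) (fun x hx => List.mem_filter.mpr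
          ⟨(List.mem_cons.mp (hs x (Finset.mem_of_mem_erase hx))).resolve_left (Finset.ne_of_mem_erase hx),
            hr v hv x (Finset.mem_of_mem_erase hx)⟩)
          fun x hx y hy => hr x (Finset.mem_of_mem_erase hx) y (Finset.mem_of_mem_erase hy)
        rw [Finset.card_erase_of_mem hv] at this
        omega
      · exact ihr h'.2 s (fun x hx => (List.mem_cons.mp (hs x hx)).resolve_left fun e => hv (e ▸ hx)) hr

/-- The element. -/
noncomputable def rt (k : ℕ) : K := el (rootW.getD k [])

theorem rootW_lt : ∀ k < 3, ∀ x ∈ rootW.getD k [], x < 10 := by decide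

theorem act_rt {k : ℕ} (hk : k < 3) {d : ℕ} (hd : d < 31671) :
    act (rt k) d = runT Fi31671.table 10 (rootR k) d := act_el _ (rootW_lt k hk) hd

theorem rt_order {k : ℕ} (hk : k < 3) : orderOf (rt k) = 3 := by
  have h : allN 3 (fun k => base8.all (fun b => Nat.beq (runT Fi31671.table 10 (rootR k)
      (runT Fi31671.table 10 (rootR k) (runT Fi31671.table 10 (rootR k) b))) b) &&
      base8.any (fun b => !Nat.beq (runT Fi31671.table 10 (rootR k) b) b)) = true := by decide +kernel
  have hh := allN_spec h k hk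
  simp only [Bool.and_eq_true, List.all_eq_true] at hh
  set p := rt k
  have h3 : p ^ 3 = 1 := ext8 fun b hb => by
    have hb' := base8_lt b hb
    have e1 := act_rt hk hb'
    have e2 := act_rt hk (act_lt p hb')
    have e3 := act_rt hk (act_lt p (act_lt p hb'))
    rw [act_one, show p ^ 3 = p * (p * p) by simp [pow_succ, mul_assoc], act_mul, act_mul, e3, e2, e1]
    exact Nat.eq_of_beq_eq_true (hh.1 b hb)
  refine orderOf_eq_prime h3 fun e => ?_
  obtain ⟨b, hb, hne⟩ := List.any_eq_true.mp hh.2
  rw [← act_rt hk (base8_lt b hb), show rt k = 1 from e, act_one] at hne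
  simp at hne

theorem fixed_mem {k : ℕ} (hk : k < 3) {d : ℕ} (hd : d < 31671) (h : act (rt k) d = d) : d ∈ fp k := by
  rw [act_rt hk hd] at h
  have key : ∀ {lo m : ℕ}, okFix k lo m = true → lo ≤ d → d < lo + m → d ∈ fp k := by
    intro lo m hok h1 h2
    have := allN_spec hok (d - lo) (by omega)
    rw [force_eq, show Nat.add lo (d - lo) = d by show lo + (d - lo) = d; omega] at this
    rw [Bool.or_eq_true, h] at this
    rcases this with q | q
    · simp at q
    · obtain ⟨e, he, he'⟩ := List.any_eq_true.mp q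
      exact Nat.eq_of_beq_eq_true he' ▸ he
  interval_cases k
  · exact key fix0_ok (Nat.zero_le d) (by omega)
  · rcases Nat.lt_or_ge d 10000 with q | q
    · exact key fix1a_ok (Nat.zero_le d) (by omega)
    rcases Nat.lt_or_ge d 20000 with q' | q'
    · exact key fix1b_ok q (by omega)
    · exact key fix1c_ok q' (by omega)
  · exact key fix2_ok (Nat.zero_le d) (by omega)

theorem row_spec {k : ℕ} (hk : k < 3) {i : ℕ} (hi : i < (fp k).length) {j : ℕ} (hj : j ≤ i) :
    (Nat.beq (Fi23Class.zf (runT Fi31671.table 10 ((fixWords.getD k []).getD i []) ((fp k).getD j 0)))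
      (runT Fi31671.table 10 ((fixWords.getD k []).getD i []) ((fp k).getD j 0))) = padj k i j ∧
      padj k j i = padj k i j := by
  have key : ∀ {lo m : ℕ}, okRowW k lo m = true → lo ≤ i → i < lo + m → _ := fun {lo m} hok h1 h2 => by
    have := allN_spec hok (i - lo) (by omega)
    rw [force_eq, show Nat.add lo (i - lo) = i by show lo + (i - lo) = i; omega] at this
    have := allN_spec this j (Nat.lt_succ_of_le hj)
    simp only [force_eq, Bool.and_eq_true, beq_iff_eq] at this
    exact this
  obtain ⟨l0, l1, l2⟩ := fp_len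
  interval_cases k
  · exact key row0_ok (Nat.zero_le i) (by omega)
  · rcases Nat.lt_or_ge i 200 with q | q
    · exact key row1a_ok (Nat.zero_le i) (by omega)
    · exact key row1b_ok q (by omega)
  · exact key row2_ok (Nat.zero_le i) (by omega)

/-- The width of the transpositions centralising an element. -/
theorem width_rt {k : ℕ} (hk : k < 3) : Cfsg.commutingWidth (conjugatesOf tz ∩
    (Subgroup.centralizer ((Subgroup.zpowers (rt k) : Subgroup K) : Set K) : Set K)) = wid.getD k 0 := by
  classical
  set p := rt k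
  set S : Set K := conjugatesOf tz ∩ (Subgroup.centralizer ((Subgroup.zpowers p : Subgroup K) : Set K) : Set K)
  have hcl := allN_spec clique_ok k hk
  simp only [okClique, Bool.and_eq_true, List.all_eq_true, blt_iff] at hcl
  obtain ⟨hlen, hcl⟩ := hcl
  have hP : ∀ i < (fp k).length, (fp k).getD i 0 < 31671 ∧ act p ((fp k).getD i 0) = (fp k).getD i 0 ∧
      (∀ x ∈ (fixWords.getD k []).getD i [], x < 10) ∧
      runT Fi31671.table 10 ((fixWords.getD k []).getD i []) ((fp k).getD i 0) = 0 := by
    intro i hi
    have h := allN_spec (allN_spec point_ok k hk) i hi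
    simp only [okPointW, force_eq, Bool.and_eq_true, blt_iff, List.all_eq_true] at h
    exact ⟨h.1.1.1, by rw [act_rt hk h.1.1.1]; exact Nat.eq_of_beq_eq_true h.1.1.2, h.1.2,
      Nat.eq_of_beq_eq_true h.2⟩
  have hF : ∀ i < (fp k).length, ∀ j < (fp k).length,
      (Commute (dt ((fp k).getD i 0)) (dt ((fp k).getD j 0)) ↔ padj k i j = true) := by
    have low : ∀ i < (fp k).length, ∀ j ≤ i,
        (Commute (dt ((fp k).getD i 0)) (dt ((fp k).getD j 0)) ↔ padj k i j = true) := by
      intro i hi j hj
      obtain ⟨hd, -, hw, hwd⟩ := hP i hi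
      rw [act_dt hd (hP j (lt_of_le_of_lt hj hi)).1 _ hw hwd, ← (row_spec hk hi hj).1]
      exact ⟨fun q => by rw [q]; exact Nat.beq_refl _, Nat.eq_of_beq_eq_true⟩
    intro i hi j hj
    rcases le_total j i with h | h
    · exact low i hi j h
    · rw [Commute.symm_iff, low j hj i h, (row_spec hk hj h).2]
  have hmem : ∀ d < 31671, (dt d ∈ S ↔ act p d = d) := fun d hd => by
    refine ⟨fun q => ?_, fun q => ⟨dt_mem d, ?_⟩⟩
    · exact (commute_dt hd).mp (Subgroup.mem_centralizer_iff.mp q.2 p (Subgroup.mem_zpowers p))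
    · refine Subgroup.mem_centralizer_iff.mpr fun y hy => ?_
      obtain ⟨z, rfl⟩ := Subgroup.mem_zpowers_iff.mp hy
      exact ((commute_dt hd).mpr q).zpow_left z
  refine IsGreatest.csSup_eq ⟨?_, ?_⟩
  · refine ⟨(fun i => dt ((fp k).getD i 0)) '' {i | i ∈ fixCliques.getD k []}, ?_,
      (List.finite_toSet _).image _, ?_, ?_⟩
    · rintro _ ⟨i, hi, rfl⟩
      exact (hmem _ (hP i (hcl i hi).1).1).mpr (hP i (hcl i hi).1).2.1
    · rintro _ ⟨i, hi, rfl⟩ _ ⟨j, hj, rfl⟩
      exact (hF i (hcl i hi).1 j (hcl j hj).1).mpr ((hcl i hi).2 j hj).1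
    · have hinj : Set.InjOn (fun i => dt ((fp k).getD i 0)) {i | i ∈ fixCliques.getD k []} := fun i hi j hj e => by
        have e' := dt_injective (hP i (hcl i hi).1).1 (hP j (hcl j hj).1).1 e
        have := ((hcl i hi).2 j hj).2
        rcases Bool.or_eq_true_iff.mp this with q | q
        · exact Nat.eq_of_beq_eq_true q
        · rw [e'] at q; simp at q
      rw [Set.ncard_image_of_injOn hinj]
      have hset : {i | i ∈ fixCliques.getD k []} = ((fixCliques.getD k []).toFinset : Set ℕ) := by ext; simp
      rw [hset, Set.ncard_coe_finset, List.toFinset_card_of_nodup (cliques_nodup k hk)]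
      exact Nat.eq_of_beq_eq_true hlen
  · rintro n ⟨E, hE, hfin, hcom, rfl⟩
    have hpos : ∀ x ∈ E, ∃ i < (fp k).length, dt ((fp k).getD i 0) = x := by
      intro x hx
      obtain ⟨d, hd, rfl⟩ := exists_dt (hE hx).1
      obtain ⟨i, hi, rfl⟩ := List.getElem_of_mem (fixed_mem hk hd ((hmem d hd).mp (hE hx)))
      exact ⟨i, hi, by rw [List.getD_eq_getElem _ _ hi]⟩
    choose! f hf1 hf2 using hpos
    have hfi : Set.InjOn f E := fun x hx y hy e => by rw [← hf2 x hx, ← hf2 y hy, e]
    have hno : noClique (padj k) (wid.getD k 0 + 1) (List.range (fp k).length) = true := by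
      obtain ⟨l0, l1, l2⟩ := fp_len
      interval_cases k
      · rw [l0]; exact noClique0
      · rw [l1]; exact noClique1
      · rw [l2]; exact noClique2
    have := noClique_sound (padj k) _ _ hno ((hfin.image f).toFinset) (fun i hi => by
      obtain ⟨x, hx, rfl⟩ := (Set.Finite.mem_toFinset _).mp hi
      exact List.mem_range.mpr (hf1 x hx)) (fun i hi j hj => by
      obtain ⟨x, hx, rfl⟩ := (Set.Finite.mem_toFinset _).mp hi
      obtain ⟨y, hy, rfl⟩ := (Set.Finite.mem_toFinset _).mp hj
      exact (hF _ (hf1 x hx) _ (hf1 y hy)).mp (by rw [hf2 x hx, hf2 y hy]; exact hcom x hx y hy))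
    rw [← Set.ncard_eq_toFinset_card _ (hfin.image f), Set.ncard_image_of_injOn hfi] at this
    omega

end CfsgLib.CosetEnum.Fi23Three
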