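/-
The central element of order three of Fi23: its fixed points, and the extraspecial subgroup of twin products.
-/
import Cfsg.Agent.Lib.CosetEnum.Fi23Three.Classes
import Cfsg.Agent.Lib.CosetEnum.Fi23Three.Widths
import Cfsg.Agent.Lib.CosetEnum.Fi23Three.CentralData
import Cfsg.Agent.Lib.RankFrattini
import Cfsg.Prelude.Def_Transfer

set_option autoImplicit false
set_option maxRecDepth 1000000

namespace CfsgLib.CosetEnum.Fi23Three.Central

open CfsgLib.CosetEnum CfsgLib.CosetEnum.Fi23Three
open scoped commutatorElement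

/-- The element. -/
noncomputable abbrev x0 : K := X 0

/-- The conjugating element. -/
noncomputable def gel : K := el gW

/-- The fixed point with an index. -/
noncomputable def fpt (i : ℕ) : ℕ := runT Fi31671.table (nat_lit 10) gW.reverse ((fp (nat_lit 1)).getD i (nat_lit 0))

/-- The word of a fixed point. -/
noncomputable def fw (i : ℕ) : List ℕ := gW ++ (fixWords.getD (nat_lit 1) []).getD i []

/-- The transposition of a word, evaluated. -/
noncomputable def tev (w : List ℕ) (x : ℕ) : ℕ :=
  runT Fi31671.table (nat_lit 10) w.reverse (Fi23Class.zf (runT Fi31671.table (nat_lit 10) w x))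

/-- The transposition of a fixed point. -/
noncomputable def q (i : ℕ) : K := dt (fpt i)

theorem act_dt_tev {w : List ℕ} (hw : ∀ x ∈ w, x < 10) {d : ℕ} (hd : d < 31671)
    (h0 : runT Fi31671.table 10 w d = 0) {x : ℕ} (hx : x < 31671) : act (dt d) x = tev w x := by
  have hu : act (el w) 0 = d := by rw [← h0, ← act_el_inv w hw hd, act_act_inv]
  have h1 : runT Fi31671.table 10 w x < 31671 := act_el_inv w hw hx ▸ act_lt _ hx
  have h2 : Fi23Class.zf (runT Fi31671.table 10 w x) < 31671 := act_tz h1 ▸ act_lt _ h1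
  rw [dt_eq hd _ hu, act_mul, act_mul, act_el_inv w hw hx, act_tz h1, act_el w hw h2]
  rfl

/-- The point of a base position. -/
noncomputable def ptB (p : ℕ) : ℕ := entry oT (nat_lit 64) (nat_lit 16) p

theorem ptB_eq (p : ℕ) : ptB p = pt p := rfl

/-- The checks of the conjugation and of the fixed points. -/
noncomputable def okConj : Bool :=
  gW.all (fun x => Nat.blt x (nat_lit 10)) &&
  bpos.all (fun p => Nat.beq
    (runT Fi31671.table (nat_lit 10) gW.reverse
      (runT Fi31671.table (nat_lit 10) (rootR (nat_lit 1)) (runT Fi31671.table (nat_lit 10) gW (pt p))))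
    (pt (tperm (nat_lit 0) p))) &&
  allN (nat_lit 324) fun i => (fw i).all (fun x => Nat.blt x (nat_lit 10)) && Nat.blt (fpt i) (nat_lit 31671) &&
    Nat.beq (runT Fi31671.table (nat_lit 10) (fw i) (fpt i)) (nat_lit 0) &&
    (Nat.beq (Nat.succ i) (nat_lit 324) || Nat.blt ((fp (nat_lit 1)).getD i (nat_lit 0)) ((fp (nat_lit 1)).getD (Nat.succ i) (nat_lit 0)))

theorem conj_ok : okConj = true := by decide +kernel

theorem gW_lt : ∀ x ∈ gW, x < 10 := by decide

theorem conj_spec {i : ℕ} (hi : i < 324) : (∀ x ∈ fw i, x < 10) ∧ fpt i < 31671 ∧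
    runT Fi31671.table 10 (fw i) (fpt i) = 0 ∧ (i + 1 < 324 → (fp 1).getD i 0 < (fp 1).getD (i + 1) 0) := by
  have h := conj_ok
  simp only [okConj, Bool.and_eq_true] at h
  have := allN_spec h.2 i hi
  simp only [Bool.and_eq_true, Bool.or_eq_true, List.all_eq_true, blt_iff] at this
  exact ⟨this.1.1.1, this.1.1.2, Nat.eq_of_beq_eq_true this.1.2,
    fun h' => this.2.resolve_left fun q => absurd (Nat.eq_of_beq_eq_true q) (by omega)⟩

theorem conj_rt : gel * rt 1 * gel⁻¹ = x0 := by
  refine ext8 fun b hb => ?_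
  rw [← bpos_spec.1] at hb
  obtain ⟨p, hp, rfl⟩ := List.mem_map.mp hb
  have hlt := (pt_spec (bpos_spec.2 p hp)).1
  have h := conj_ok
  simp only [okConj, Bool.and_eq_true, List.all_eq_true] at h
  rw [act_mul, act_mul, gel, act_el_inv gW gW_lt hlt]
  have h1 : runT Fi31671.table 10 gW (pt p) < 31671 := act_el_inv gW gW_lt hlt ▸ act_lt _ hlt
  rw [act_rt (by norm_num) h1, act_el gW gW_lt (act_rt (k := 1) (by norm_num) h1 ▸ act_lt _ h1),
    Nat.eq_of_beq_eq_true (h.1.2 p hp)]
  exact ((X_real (by norm_num : 0 < 13)) p (bpos_spec.2 p hp)).2.symm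

theorem q_eq {i : ℕ} (hi : i < 324) : q i = gel * dt ((fp 1).getD i 0) * gel⁻¹ := by
  have hd : (fp 1).getD i 0 < 31671 := by
    have := allN_spec (allN_spec point_ok 1 (by norm_num)) i (by rw [fp_len.2.1]; exact hi)
    simp only [okPointW, force_eq, Bool.and_eq_true, blt_iff] at this
    exact this.1.1.1
  have e : fpt i = act gel ((fp 1).getD i 0) := (act_el gW gW_lt hd).symm
  rw [q, e, dt_eq (act_lt _ hd) (gel * toPt _) (by rw [act_mul, act_toPt hd]), dt]
  group

theorem q_mem (i : ℕ) : q i ∈ conjugatesOf tz := dt_mem _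

theorem fp_mono : ∀ {i j : ℕ}, j < 324 → i < j → (fp 1).getD i 0 < (fp 1).getD j 0 := by
  intro i j hj h
  induction j with
  | zero => omega
  | succ j ih =>
    have h1 := (conj_spec (i := j) (by omega)).2.2.2 hj
    rcases Nat.lt_succ_iff_lt_or_eq.mp h with h' | h'
    · exact (ih (by omega) h').trans h1
    · exact h' ▸ h1

theorem q_inj {i j : ℕ} (hi : i < 324) (hj : j < 324) (h : q i = q j) : i = j := by
  have hfp : ∀ {i : ℕ}, i < 324 → (fp 1).getD i 0 < 31671 := fun {i} hi => by
    have := allN_spec (allN_spec point_ok 1 (by norm_num)) i (by rw [fp_len.2.1]; exact hi)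
    simp only [okPointW, force_eq, Bool.and_eq_true, blt_iff] at this
    exact this.1.1.1
  rw [q_eq hi, q_eq hj] at h
  have e := dt_injective (hfp hi) (hfp hj) (mul_left_cancel (mul_right_cancel h))
  rcases lt_trichotomy i j with r | r | r
  · exact absurd e (fp_mono hj r).ne
  · exact r
  · exact absurd e (fp_mono hi r).ne'

theorem q_pattern {i j : ℕ} (hi : i < 324) (hj : j < 324) : Commute (q i) (q j) ↔ padj 1 i j = true := by
  have hP : ∀ i < 324, (fp 1).getD i 0 < 31671 ∧
      (∀ x ∈ (fixWords.getD 1 []).getD i [], x < 10) ∧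
      runT Fi31671.table 10 ((fixWords.getD 1 []).getD i []) ((fp 1).getD i 0) = 0 := by
    intro i hi
    have h := allN_spec (allN_spec point_ok 1 (by norm_num)) i (by rw [fp_len.2.1]; exact hi)
    simp only [okPointW, force_eq, Bool.and_eq_true, blt_iff, List.all_eq_true] at h
    exact ⟨h.1.1.1, h.1.2, Nat.eq_of_beq_eq_true h.2⟩
  have low : ∀ i < 324, ∀ j ≤ i,
      (Commute (dt ((fp 1).getD i 0)) (dt ((fp 1).getD j 0)) ↔ padj 1 i j = true) := by
    intro i hi j hj
    obtain ⟨hd, hw, hwd⟩ := hP i hi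
    rw [act_dt hd (hP j (lt_of_le_of_lt hj hi)).1 _ hw hwd,
      ← (row_spec (k := 1) (by norm_num) (by rw [fp_len.2.1]; exact hi) hj).1]
    exact ⟨fun q => by rw [q]; exact Nat.beq_refl _, Nat.eq_of_beq_eq_true⟩
  have hc : Commute (q i) (q j) ↔ Commute (dt ((fp 1).getD i 0)) (dt ((fp 1).getD j 0)) := by
    rw [q_eq hi, q_eq hj]
    constructor
    · intro h
      have := h.map (MulAut.conj gel⁻¹).toMonoidHom
      simpa [mul_assoc] using this
    · exact fun h => h.map (MulAut.conj gel).toMonoidHom
  rw [hc]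
  rcases le_total j i with h | h
  · exact low i hi j h
  · rw [Commute.symm_iff, low j hj i h, (row_spec (k := 1) (by norm_num) (by rw [fp_len.2.1]; exact hj) h).2]

theorem q_cent {i : ℕ} (hi : i < 324) : Commute (q i) x0 := by
  have h := allN_spec (allN_spec point_ok 1 (by norm_num)) i (by rw [fp_len.2.1]; exact hi)
  simp only [okPointW, force_eq, Bool.and_eq_true, blt_iff] at h
  have hc : Commute (dt ((fp 1).getD i 0)) (rt 1) :=
    ((commute_dt h.1.1.1).mpr (by rw [act_rt (by norm_num) h.1.1.1]; exact Nat.eq_of_beq_eq_true h.1.1.2)).symm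
  rw [q_eq hi, ← conj_rt]
  exact hc.map (MulAut.conj gel).toMonoidHom

theorem q_surj {z : K} (hz : z ∈ conjugatesOf tz) (hc : Commute z x0) : ∃ i < 324, q i = z := by
  obtain ⟨d, hd, rfl⟩ := exists_dt hz
  set d' := act gel⁻¹ d
  have hd' : d' < 31671 := act_lt _ hd
  have hfix : act (rt 1) d' = d' := by
    refine (commute_dt hd').mp ?_
    have h := hc.symm.map (MulAut.conj gel⁻¹).toMonoidHom
    have e : dt d' = gel⁻¹ * dt d * gel⁻¹⁻¹ := by
      rw [dt_eq hd' (gel⁻¹ * toPt d) (by rw [act_mul, act_toPt hd]), dt]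
      group
    rw [e]
    rw [← conj_rt] at h
    simpa [mul_assoc] using h
  obtain ⟨i, hi, e⟩ := List.getElem_of_mem (fixed_mem (by norm_num) hd' hfix)
  have hi' : i < 324 := fp_len.2.1 ▸ hi
  refine ⟨i, hi', ?_⟩
  rw [q, fpt, ← act_el gW gW_lt (by rw [List.getD_eq_getElem _ _ hi, e]; exact hd'),
    List.getD_eq_getElem _ _ hi, e]
  exact congrArg dt (act_act_inv gel d)

/-- Two fixed points are twins. -/
def Tw (i j : ℕ) : Prop :=
  i ≠ j ∧ padj 1 i j = false ∧ ∀ c < 324, c ≠ i → c ≠ j → padj 1 i c = padj 1 j c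

/-- A row of the pattern. -/
noncomputable def rw1 (i : ℕ) : ℕ := (fixRows.getD (nat_lit 1) []).getD i (nat_lit 0)

/-- The mask of two indices. -/
noncomputable def two (i j : ℕ) : ℕ := Nat.lor (Nat.shiftLeft (nat_lit 1) i) (Nat.shiftLeft (nat_lit 1) j)

/-- The check of twins. -/
noncomputable def twB (i j : ℕ) : Bool :=
  !Nat.beq i j && !padj (nat_lit 1) i j && Nat.beq (Nat.lor (Nat.xor (rw1 i) (rw1 j)) (two i j)) (two i j)

/-- Rows have 324 digits. -/
noncomputable def okRows : Bool :=
  force (Nat.pow (nat_lit 2) (nat_lit 324)) fun P => allN (nat_lit 324) fun i => Nat.blt (rw1 i) P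

theorem rows_ok : okRows = true := by decide +kernel

theorem twB_iff {i j : ℕ} (hi : i < 324) (hj : j < 324) : twB i j = true ↔ Tw i j := by
  have hlt : ∀ i < 324, rw1 i < 2 ^ 324 := fun i hi => by
    have h := rows_ok
    rw [okRows, force_eq] at h
    exact blt_iff.mp (allN_spec h i hi)
  have hp : ∀ a c, padj 1 a c = Nat.testBit (rw1 a) c := fun a c => rfl
  have htwo : ∀ c, Nat.testBit (two i j) c = (decide (i = c) || decide (j = c)) := fun c => by
    show Nat.testBit (1 <<< i ||| 1 <<< j) c = _
    rw [Nat.testBit_lor, Nat.one_shiftLeft, Nat.one_shiftLeft, Nat.testBit_two_pow, Nat.testBit_two_pow]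
  have hb : ∀ c, Nat.testBit (Nat.lor (Nat.xor (rw1 i) (rw1 j)) (two i j)) c =
      ((Nat.testBit (rw1 i) c ^^ Nat.testBit (rw1 j) c) || Nat.testBit (two i j) c) := fun c => by
    show Nat.testBit ((rw1 i ^^^ rw1 j) ||| two i j) c = _
    rw [Nat.testBit_lor, Nat.testBit_xor]
  simp only [twB, Bool.and_eq_true, Bool.not_eq_eq_eq_not, Bool.not_true, Tw]
  constructor
  · rintro ⟨⟨h1, h2⟩, h3⟩
    refine ⟨Nat.ne_of_beq_eq_false h1, h2, fun c hc hci hcj => ?_⟩
    have := congrArg (fun n => Nat.testBit n c) (Nat.eq_of_beq_eq_true h3)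
    simp only [hb, htwo, hp, decide_eq_false hci.symm, decide_eq_false hcj.symm, Bool.or_self, Bool.or_false] at this ⊢
    revert this
    cases Nat.testBit (rw1 i) c <;> cases Nat.testBit (rw1 j) c <;> simp
  · rintro ⟨h1, h2, h3⟩
    refine ⟨⟨?_, h2⟩, ?_⟩
    · cases h : Nat.beq i j
      · rfl
      · exact absurd (Nat.eq_of_beq_eq_true h) h1
    · rw [show Nat.lor (Nat.xor (rw1 i) (rw1 j)) (two i j) = two i j from Nat.eq_of_testBit_eq fun c => by
        rw [hb]
        rcases Nat.lt_or_ge c 324 with hc | hc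
        · by_cases hci : c = i
          · rw [htwo]; simp [hci]
          · by_cases hcj : c = j
            · rw [htwo]; simp [hcj]
            · have := h3 c hc hci hcj
              rw [hp, hp] at this
              rw [this]; simp
        · have hz : ∀ a < 324, Nat.testBit (rw1 a) c = false := fun a ha =>
            Nat.testBit_eq_false_of_lt ((hlt a ha).trans_le (Nat.pow_le_pow_right (by norm_num) hc))
          rw [hz i hi, hz j hj]; simp]
      exact Nat.beq_refl _

/-- The twins have the same representative. -/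
noncomputable def okReps : Bool :=
  allN (nat_lit 324) fun i => allN (nat_lit 324) fun j => !twB i j || Nat.beq (reps.getD i (nat_lit 0)) (reps.getD j (nat_lit 0))

theorem reps_ok : okReps = true := by decide +kernel

/-- The product with the representative. -/
noncomputable def okProd (i : ℕ) : Bool :=
  force (reps.getD i (nat_lit 0)) fun r => force (prodIdx.getD i (nat_lit 0)) fun a =>
    Nat.blt r (nat_lit 324) && Nat.blt a (Nat.pow (nat_lit 3) (nat_lit 9)) &&
    bpos.all fun p => Nat.beq (tev (fw r) (tev (fw i) (pt p))) (pt (pev (nat_lit 9) a p))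

theorem prod_ok : allN 324 okProd = true := by decide +kernel

theorem act_q {i : ℕ} (hi : i < 324) {x : ℕ} (hx : x < 31671) : act (q i) x = tev (fw i) x :=
  act_dt_tev (conj_spec hi).1 (conj_spec hi).2.1 (conj_spec hi).2.2.1 hx

theorem q_sq (i : ℕ) : q i * q i = 1 := by
  rw [q, dt, show toPt (fpt i) * tz * (toPt (fpt i))⁻¹ * (toPt (fpt i) * tz * (toPt (fpt i))⁻¹) =
    toPt (fpt i) * (tz * tz) * (toPt (fpt i))⁻¹ by group, show tz * tz = 1 from Fi23Aut.t_sq]
  group

theorem rep_mem {i : ℕ} (hi : i < 324) : reps.getD i 0 < 324 ∧ q (reps.getD i 0) * q i ∈ H 9 := by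
  have h := allN_spec prod_ok i hi
  simp only [okProd, force_eq, Bool.and_eq_true, blt_iff, List.all_eq_true] at h
  refine ⟨h.1.1, ?_⟩
  have e : q (reps.getD i 0) * q i = Pel 9 (prodIdx.getD i 0) := ext8 fun b hb => by
    rw [← bpos_spec.1] at hb
    obtain ⟨p, hp, rfl⟩ := List.mem_map.mp hb
    have hlt := (pt_spec (bpos_spec.2 p hp)).1
    rw [act_mul, act_q h.1.1 (act_lt _ hlt), act_q hi hlt, Nat.eq_of_beq_eq_true (h.2 p hp)]
    exact ((Real_Pel 9 (by norm_num) _) p (bpos_spec.2 p hp)).2.symm
  rw [e]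
  exact Pel_mem 9 _

/-- Products of twins lie in the extraspecial group. -/
theorem tw_mem {i j : ℕ} (hi : i < 324) (hj : j < 324) (h : Tw i j) : q i * q j ∈ H 9 := by
  have := allN_spec (allN_spec reps_ok i hi) j hj
  rw [(twB_iff hi hj).mpr h] at this
  have hr : reps.getD i 0 = reps.getD j 0 := Nat.eq_of_beq_eq_true (by simpa using this)
  obtain ⟨-, h1⟩ := rep_mem hi
  obtain ⟨-, h2⟩ := rep_mem hj
  rw [← hr] at h2
  have := mul_mem (inv_mem h1) h2
  rwa [mul_inv_rev, inv_eq_of_mul_eq_one_right (q_sq i), inv_eq_of_mul_eq_one_right (q_sq (reps.getD i 0)),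
    show q i * q (reps.getD i 0) * (q (reps.getD i 0) * q j) = q i * (q (reps.getD i 0) * q (reps.getD i 0)) * q j by group,
    q_sq, mul_one] at this

/-- The members are products of twins. -/
noncomputable def okGenW (j : ℕ) : Bool :=
  (genW.getD j []).all (fun e => Nat.blt e.1 (nat_lit 324) && Nat.blt e.2 (nat_lit 324) && twB e.1 e.2) &&
    bpos.all fun p => Nat.beq
      (List.rec (motive := fun _ => ℕ) (pt p) (fun e _ v => tev (fw e.1) (tev (fw e.2) v)) (genW.getD j []))
      (pt (tperm j p))

theorem genW_ok : allN 9 okGenW = true := by decide +kernel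

theorem gen_spec {j : ℕ} (hj : j < 9) :
    X j ∈ Subgroup.closure {g : K | ∃ a b, a < 324 ∧ b < 324 ∧ Tw a b ∧ g = q a * q b} := by
  have h := allN_spec genW_ok j hj
  simp only [okGenW, Bool.and_eq_true, List.all_eq_true, blt_iff] at h
  have e : ∀ w : List (ℕ × ℕ), (∀ e ∈ w, e.1 < 324 ∧ e.2 < 324) → ∀ x < 31671,
      act ((w.map fun e => q e.1 * q e.2).prod) x =
        List.rec (motive := fun _ => ℕ) x (fun e _ v => tev (fw e.1) (tev (fw e.2) v)) w := by
    intro w
    induction w with
    | nil => intro _ x _; exact act_one x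
    | cons a w ih =>
      intro hw x hx
      have ih' := ih (fun e he => hw e (List.mem_cons_of_mem _ he)) x hx
      rw [List.map_cons, List.prod_cons, act_mul, act_mul, act_q (hw a List.mem_cons_self).2 (act_lt _ hx),
        act_q (hw a List.mem_cons_self).1 (act_q (hw a List.mem_cons_self).2 (act_lt _ hx) ▸ act_lt _ (act_lt _ hx)), ih']
  have ej : X j = ((genW.getD j []).map fun e => q e.1 * q e.2).prod := ext8 fun b hb => by
    rw [← bpos_spec.1] at hb
    obtain ⟨p, hp, rfl⟩ := List.mem_map.mp hb
    rw [e _ (fun e he => ⟨(h.1 e he).1.1, (h.1 e he).1.2⟩) _ (pt_spec (bpos_spec.2 p hp)).1,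
      Nat.eq_of_beq_eq_true (h.2 p hp)]
    exact ((X_real (hj.trans (by norm_num))) p (bpos_spec.2 p hp)).2
  rw [ej]
  refine Subgroup.list_prod_mem _ fun g hg => ?_
  obtain ⟨e', he', rfl⟩ := List.mem_map.mp hg
  exact Subgroup.subset_closure ⟨e'.1, e'.2, (h.1 e' he').1.1, (h.1 e' he').1.2,
    (twB_iff (h.1 e' he').1.1 (h.1 e' he').1.2).mp (h.1 e' he').2, rfl⟩

/-- The pattern around the first fixed point. -/
noncomputable def okPattern : Bool :=
  allN (nat_lit 324) (fun j => Nat.beq j (nat_lit 0) || !padj (nat_lit 1) (nat_lit 0) j ||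
    force (midW.getD j (nat_lit 0)) fun c => Nat.blt c (nat_lit 324) && !padj (nat_lit 1) (nat_lit 0) c && !padj (nat_lit 1) c j) &&
  Nat.beq ((List.range (nat_lit 324)).filter (fun j => Nat.beq (reps.getD j (nat_lit 0)) (reps.getD (nat_lit 0) (nat_lit 0)))).length (nat_lit 9) &&
  (three.all fun a => Nat.blt a (nat_lit 324) && !Nat.beq a (nat_lit 0) && padj (nat_lit 1) (nat_lit 0) a &&
    three.all fun b => padj (nat_lit 1) a b) && Nat.beq three.length (nat_lit 3) &&
  twB (nat_lit 0) twinA && twB (nat_lit 0) twinB && Nat.blt twinA (nat_lit 324) && Nat.blt twinB (nat_lit 324) &&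
  Nat.blt twinC (nat_lit 324) && !Nat.beq twinB twinA && !Nat.beq twinB twinC &&
  Nat.beq (tev (fw (nat_lit 0)) (fpt twinA)) (fpt twinC)

theorem pattern_ok : okPattern = true := by decide +kernel

theorem three_nodup : three.Nodup := by decide +kernel

/-- The commutators and cubes of the members. -/
noncomputable def okComm9 : Bool :=
  allN (nat_lit 9) fun l => (List.range 3).any (fun e => bpos.all fun p =>
      Nat.beq (tperm l (tperm l (tperm l p))) (Nat.rec p (fun _ a => force a (tperm (nat_lit 0))) e)) &&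
    allN (nat_lit 9) fun m => (List.range 3).any fun e => bpos.all fun p =>
      Nat.beq (tperm l (tperm m p)) (Nat.rec (tperm m (tperm l p)) (fun _ a => force a (tperm (nat_lit 0))) e)

/-- Dual members for the commutator form. -/
def dualIdx : List ℕ := [12213, 5892, 741, 486, 84, 69, 12, 6]

/-- The dual members commute with all the members but one. -/
noncomputable def okDual : Bool :=
  allN (nat_lit 8) fun k => force (dualIdx.getD k (nat_lit 0)) fun y => Nat.blt y (Nat.pow (nat_lit 3) (nat_lit 9)) &&
    allN (nat_lit 9) fun m => Bool.rec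
      (bpos.all fun p => Nat.beq (tperm m (pev (nat_lit 9) y p)) (pev (nat_lit 9) y (tperm m p)))
      (bpos.any fun p => !Nat.beq (tperm m (pev (nat_lit 9) y p)) (pev (nat_lit 9) y (tperm m p)))
      (Nat.beq m (Nat.succ k))

/-- The element is central in the Sylow subgroup. -/
noncomputable def okCentre13 : Bool :=
  allN (nat_lit 13) fun m => bpos.all fun p => Nat.beq (tperm (nat_lit 0) (tperm m p)) (tperm m (tperm (nat_lit 0) p))

theorem comm9_ok : okComm9 = true := by decide +kernel
theorem dual_ok : okDual = true := by decide +kernel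
theorem centre13_ok : okCentre13 = true := by decide +kernel

theorem x0_order : orderOf x0 = 3 := by
  rw [← conj_rt, ← MulAut.conj_apply, MulEquiv.orderOf_eq, rt_order (by norm_num)]

theorem x0_central {g : K} (hg : g ∈ H 13) : Commute x0 g := by
  induction hg using Subgroup.closure_induction with
  | mem g hg =>
    obtain ⟨m, hm, rfl⟩ := hg
    have h := allN_spec centre13_ok m hm
    simp only [List.all_eq_true] at h
    exact ext_pos (Real.mul (X_real (by norm_num)) (X_real hm)) (Real.mul (X_real hm) (X_real (by norm_num)))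
      fun p hp => Nat.eq_of_beq_eq_true (h p hp)
  | one => exact Commute.one_right _
  | mul a b _ _ ha hb => exact ha.mul_right hb
  | inv a _ ha => exact ha.inv_right

theorem x0_mem : x0 ∈ H 9 := X_mem (by norm_num)

/-- The centre of the extraspecial group. -/
noncomputable abbrev Z : Subgroup K := Subgroup.zpowers x0

theorem comm_Z {z g : K} (hz : z ∈ Z) (hg : g ∈ H 9) : Commute g z := by
  obtain ⟨n, rfl⟩ := Subgroup.mem_zpowers_iff.mp hz
  exact ((x0_central (H_mono (by norm_num) hg)).symm).zpow_right n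

theorem commutator_mem {p g : K} (hp : p ∈ H 9) (hg : g ∈ H 9) : ⁅p, g⁆ ∈ Z := by
  have key : ∀ g ∈ H 9, (∀ m < 9, ⁅X m, g⁆ ∈ Z) → ∀ p ∈ H 9, ⁅p, g⁆ ∈ Z := by
    intro g hg h p hp
    induction hp using Subgroup.closure_induction with
    | mem a ha => obtain ⟨m, hm, rfl⟩ := ha; exact h m hm
    | one => simp
    | mul a b ha hb iha ihb =>
      have e : ⁅a * b, g⁆ = a * ⁅b, g⁆ * a⁻¹ * ⁅a, g⁆ := by simp only [commutatorElement_def]; group
      rw [e, (comm_Z ihb ha).eq, mul_inv_cancel_right]
      exact mul_mem ihb iha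
    | inv a ha iha =>
      have e : ⁅a⁻¹, g⁆ = a⁻¹ * ⁅a, g⁆⁻¹ * a := by simp only [commutatorElement_def]; group
      rw [e, (comm_Z (inv_mem iha) (inv_mem ha)).eq, inv_mul_cancel_right]
      exact inv_mem iha
  refine key g hg (fun m hm => ?_) p hp
  rw [← commutatorElement_inv]
  refine inv_mem (key _ (X_mem hm) (fun l hl => ?_) g hg)
  have h := allN_spec comm9_ok l hl
  simp only [Bool.and_eq_true] at h
  have h := allN_spec h.2 m hm
  simp only [List.any_eq_true, List.all_eq_true, List.mem_range] at h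
  obtain ⟨e, -, he⟩ := h
  have e1 : X l * X m = X 0 ^ e * (X m * X l) :=
    ext_pos (Real.mul (X_real (hl.trans (by norm_num))) (X_real (hm.trans (by norm_num))))
      (Real.mul (Real_pow (by norm_num) e) (Real.mul (X_real (hm.trans (by norm_num))) (X_real (hl.trans (by norm_num)))))
      fun p hp => Nat.eq_of_beq_eq_true (he p hp)
  rw [commutatorElement_def, e1, show X 0 ^ e * (X m * X l) * (X l)⁻¹ * (X m)⁻¹ = X 0 ^ e by group]
  exact pow_mem (Subgroup.mem_zpowers _) e

theorem cube_mem {g : K} (hg : g ∈ H 9) : g ^ 3 ∈ Z := by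
  have hZ3 : ∀ z ∈ Z, z ^ 3 = 1 := fun z hz => by
    obtain ⟨n, rfl⟩ := Subgroup.mem_zpowers_iff.mp hz
    have h3 : x0 ^ 3 = 1 := x0_order ▸ pow_orderOf_eq_one x0
    rw [← zpow_natCast, ← zpow_mul, mul_comm, zpow_mul, zpow_natCast, h3, one_zpow]
  induction hg using Subgroup.closure_induction with
  | mem a ha =>
    obtain ⟨l, hl, rfl⟩ := ha
    have h := allN_spec comm9_ok l hl
    simp only [Bool.and_eq_true, List.any_eq_true, List.all_eq_true, List.mem_range] at h
    obtain ⟨e, -, he⟩ := h.1
    have e1 : X l ^ 3 = X 0 ^ e := ext_pos (Real_pow (hl.trans (by norm_num)) 3) (Real_pow (by norm_num) e)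
      fun p hp => by
        show force (force (force p (tperm l)) (tperm l)) (tperm l) = _
        rw [force_eq, force_eq, force_eq]
        exact Nat.eq_of_beq_eq_true (he p hp)
    rw [e1]
    exact pow_mem (Subgroup.mem_zpowers _) e
  | one => simp
  | mul a b ha hb iha ihb =>
    set c := ⁅b, a⁆
    have hc : c ∈ Z := commutator_mem hb ha
    have hba : b * a = c * (a * b) := by simp only [c, commutatorElement_def]; group
    have ca : Commute a c := comm_Z hc ha
    have cb : Commute b c := comm_Z hc hb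
    have e2 : (a * b) ^ 3 = c ^ 3 * (a ^ 3 * b ^ 3) := by
      have hbba : b * b * a = c * c * (a * b * b) := by
        calc b * b * a = b * (b * a) := by group
          _ = (b * c) * (a * b) := by rw [hba]; group
          _ = c * (b * a) * b := by rw [cb.eq]; group
          _ = c * c * (a * b * b) := by rw [hba]; group
      calc (a * b) ^ 3 = a * (b * a) * b * (a * b) := by simp [pow_succ, mul_assoc]
        _ = (a * c) * a * (b * b * a) * b := by rw [hba]; group
        _ = c * a * a * (c * c) * (a * b * b) * b := by rw [hbba, ca.eq]; group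
        _ = c * ((a * a) * (c * c)) * (a * b * b) * b := by group
        _ = c * ((c * c) * (a * a)) * (a * b * b) * b := by
          rw [((ca.mul_left ca).mul_right (ca.mul_left ca)).eq]
        _ = c ^ 3 * (a ^ 3 * b ^ 3) := by simp [pow_succ, mul_assoc]
    rw [e2, hZ3 c hc, one_mul]
    exact mul_mem iha ihb
  | inv a _ iha => rw [inv_pow]; exact inv_mem iha

theorem centre_le {g : K} (hg : g ∈ H 9) (h : ∀ p ∈ H 9, Commute g p) : g ∈ Z := by
  obtain ⟨i, hi, rfl⟩ := (H_spec 9 (by norm_num)).1 g hg
  have hd : ∀ j, 1 ≤ j → j < 9 → digit i j = 0 := by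
    intro j hj1 hj
    have hj8 : j - 1 < 8 := by omega
    have hk := allN_spec dual_ok (j - 1) hj8
    simp only [force_eq, Bool.and_eq_true, blt_iff] at hk
    set y := dualIdx.getD (j - 1) 0
    set Y := Pel 9 y
    have hY : ∀ m < 9, m ≠ j → Commute (X m) Y := by
      intro m hm hmj
      have h' := allN_spec hk.2 m hm
      revert h'
      cases hb : Nat.beq m (Nat.succ (j - 1))
      · intro h'
        simp only [List.all_eq_true] at h'
        exact ext_pos (Real.mul (X_real (hm.trans (by norm_num))) (Real_Pel 9 (by norm_num) y))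
          (Real.mul (Real_Pel 9 (by norm_num) y) (X_real (hm.trans (by norm_num))))
          fun p hp => Nat.eq_of_beq_eq_true (h' p hp)
      · exact absurd (Nat.eq_of_beq_eq_true hb) (by omega)
    have hnY : ¬ Commute (X j) Y := by
      intro hc
      have h' := allN_spec hk.2 j hj
      revert h'
      cases hb : Nat.beq j (Nat.succ (j - 1))
      · exact absurd (show j = Nat.succ (j - 1) by omega) (Nat.ne_of_beq_eq_false hb)
      · intro h'
        simp only [List.any_eq_true, Bool.not_eq_eq_eq_not, Bool.not_true] at h'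
        obtain ⟨p, hp, hne⟩ := h'
        apply Nat.ne_of_beq_eq_false hne
        have hp' := bpos_spec.2 p hp
        have hj13 : j < 13 := hj.trans (by norm_num)
        obtain ⟨r1, e1⟩ := Real.mul (X_real hj13) (Real_Pel 9 (by norm_num) y) p hp'
        obtain ⟨r2, e2⟩ := Real.mul (Real_Pel 9 (by norm_num) y) (X_real hj13) p hp'
        exact pt_inj r1 r2 (by rw [← e1, ← e2, hc.eq])
    have key : ∀ n ≤ 9, Commute (Pel n i) Y → j < n → digit i j = 0 := by
      intro n
      induction n with
      | zero => intro _ _ h; omega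
      | succ n ih =>
        intro hn hc hjn
        have hlow : ∀ m ≤ n, j ≥ m → Commute (Pel m i) Y := by
          intro m
          induction m with
          | zero => intro _ _; exact Commute.one_left _
          | succ m ihm =>
            intro hm hjm
            exact ((hY m (by omega) (by omega)).pow_left _).mul_left (ihm (by omega) (by omega))
        rcases Nat.lt_succ_iff_lt_or_eq.mp hjn with hlt | rfl
        · refine ih (by omega) ?_ hlt
          have h1 : Commute (X n ^ digit i n) Y := (hY n (by omega) (by omega)).pow_left _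
          have := h1.inv_left.mul_left hc
          rwa [show (X n ^ digit i n)⁻¹ * Pel (n + 1) i = Pel n i from inv_mul_cancel_left _ _] at this
        · have h1 : Commute (X j ^ digit i j) Y := by
            have := hc.mul_left (hlow j le_rfl le_rfl).inv_left
            rwa [show Pel (j + 1) i * (Pel j i)⁻¹ = X j ^ digit i j from mul_inv_cancel_right _ _] at this
          have h3 : digit i j < 3 := Nat.mod_lt _ (by norm_num)
          rcases (by omega : digit i j = 0 ∨ digit i j = 1 ∨ digit i j = 2) with e | e | e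
          · exact e
          · rw [e, pow_one] at h1; exact absurd h1 hnY
          · exfalso
            rw [e] at h1
            obtain ⟨a, -, ha⟩ := (step_spec (hj.trans (by norm_num) : j < 13)).2
            have hc3 : Commute (X j ^ 3) Y := by
              have hz := cube_mem (X_mem (m := j) (j := 9) hj)
              exact (comm_Z hz (Pel_mem 9 y)).symm
            have := h1.inv_left.mul_left hc3
            rw [show (X j ^ 2)⁻¹ * X j ^ 3 = X j by rw [pow_succ (X j) 2, inv_mul_cancel_left]] at this
            exact hnY this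
    exact key 9 le_rfl (h Y (Pel_mem 9 y)) hj
  rw [Pel_congr (i' := i % 3) 9 fun m hm => ?_]
  · rw [Pel_low (lt_of_lt_of_le (Nat.mod_lt i (by norm_num)) (by norm_num : (3 : ℕ) ≤ 3 ^ 1)) (by norm_num)]
    show X 0 ^ digit (i % 3) 0 * 1 ∈ Z
    rw [mul_one]
    exact pow_mem (Subgroup.mem_zpowers _) _
  · rcases Nat.eq_zero_or_pos m with rfl | hm0
    · simp [digit_eq]
    · rw [hd m hm0 hm, digit_eq, Nat.div_eq_of_lt (lt_of_lt_of_le (Nat.mod_lt i (by norm_num))
        (Nat.le_self_pow (by omega) 3)), Nat.zero_mod]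

theorem extraspecial : Cfsg.IsExtraspecial 3 ↥(H 9) := by
  have := finiteK
  have : Fact (Nat.Prime 3) := ⟨by norm_num⟩
  have hcard9 := (H_spec 9 (by norm_num)).2
  have hp : IsPGroup 3 (H 9) := IsPGroup.of_card hcard9
  have hZle : Z ≤ H 9 := Subgroup.zpowers_le.mpr x0_mem
  have hcen : Subgroup.center (H 9) = Z.subgroupOf (H 9) := by
    ext g
    rw [Subgroup.mem_center_iff, Subgroup.mem_subgroupOf]
    exact ⟨fun h => centre_le g.2 fun p hp => (congrArg Subtype.val (h ⟨p, hp⟩)).symm,
      fun h p => Subtype.ext (comm_Z h p.2).eq⟩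
  have hcard : Nat.card (Subgroup.center (H 9)) = 3 := by
    rw [hcen, Nat.card_congr (Subgroup.subgroupOfEquivOfLe hZle).toEquiv, Nat.card_zpowers, x0_order]
  have hcomm : commutator (H 9) = Subgroup.center (H 9) := by
    have hle : commutator (H 9) ≤ Subgroup.center (H 9) := by
      rw [hcen, commutator_def, Subgroup.commutator_le]
      exact fun a _ b _ => commutator_mem a.2 b.2
    refine Subgroup.eq_of_le_of_card_ge hle ?_
    have hd : Nat.card (commutator (H 9)) ∣ 3 := hcard ▸ Subgroup.card_dvd_of_le hle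
    rcases (Nat.dvd_prime (by norm_num)).mp hd with e | e
    · exfalso
      have hbot : commutator (H 9) = ⊥ := Subgroup.eq_bot_of_card_eq _ e
      have : (⊤ : Subgroup (H 9)) ≤ Subgroup.center (H 9) := fun g _ => by
        rw [Subgroup.mem_center_iff]
        intro p
        have : ⁅p, g⁆ ∈ commutator (H 9) := Subgroup.commutator_mem_commutator (Subgroup.mem_top _) (Subgroup.mem_top _)
        rw [hbot, Subgroup.mem_bot, commutatorElement_eq_one_iff_mul_comm] at this
        exact this
      have := Subgroup.card_dvd_of_le this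
      rw [Subgroup.card_top, hcard9, hcard] at this
      exact absurd (Nat.le_of_dvd (by norm_num) this) (by norm_num)
    · rw [e, hcard]
  refine ⟨⟨hp, le_antisymm ?_ (hcomm ▸ CfsgLib.commutator_le_frattini_pGroup hp), hcomm⟩, hcard⟩
  refine CfsgLib.RankFrattini.frattini_le_of_elementary hp _ (fun a b => ?_) fun a => ?_
  · exact hcomm ▸ Subgroup.commutator_mem_commutator (Subgroup.mem_top _) (Subgroup.mem_top _)
  · rw [hcen, Subgroup.mem_subgroupOf]
    exact cube_mem a.2

end CfsgLib.CosetEnum.Fi23Three.Central
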