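/-
Data: elements of the normaliser of the central element of order three and commutators down to the ninth level.
-/
import Cfsg.Agent.Lib.CosetEnum.Basic

set_option autoImplicit false
set_option maxRecDepth 1000000

namespace CfsgLib.CosetEnum.Fi23Three.Maximal

/-- The elements of each level as products of transpositions, with the two elements before. -/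
def derived : List (List (List (ℕ × List ℕ) × ℕ × ℕ)) :=
[  [([(22830, [3, 8, 9, 5, 4, 3, 8, 7, 5, 6, 4, 5, 2, 3, 4, 1, 2, 3, 8, 9, 4, 5, 3, 4, 1, 2, 3, 8, 0, 1, 2, 3, 4, 5, 6, 7]), (4459, [8, 7, 6, 5, 3, 4, 2, 3, 8, 9, 5, 2, 3, 4, 1, 2, 3, 8, 0, 1, 2, 3, 4, 5, 6, 7]), (1, [7]), (503, [5, 6, 4, 5, 2, 3, 4, 1, 2, 3, 8, 0, 1, 2, 3, 4, 5, 6, 7]), (10, [9, 8, 3, 4, 5, 6, 7]), (1002, [9, 5, 6, 3, 4, 5, 2, 3, 4, 1, 2, 3, 8, 0, 1, 2, 3, 4, 5, 6, 7]), (1380, [6, 7, 5, 6, 3, 4, 5, 2, 3, 4, 1, 2, 3, 8, 0, 1, 2, 3, 4, 5, 6, 7]), (1378, [7, 4, 5, 6, 3, 4, 5, 2, 3, 4, 1, 2, 3, 8, 0, 1, 2, 3, 4, 5, 6, 7]), (8002, [4, 3, 8, 2, 3, 4, 1, 2, 3, 8, 6, 7, 5, 6, 4, 5, 3,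 4, 2, 3, 8, 1, 2, 3, 4, 5, 6, 7]), (2524, [5, 6, 7, 4, 5, 6, 3, 4, 5, 2, 3, 4, 1, 2, 3, 8, 0, 1, 2, 3, 4, 5, 6, 7]), (8006, [6, 5, 4, 3, 8, 2, 3, 4, 1, 2, 3, 8, 5, 6, 4, 5, 3, 4, 2, 3, 8, 1, 2, 3, 4, 5, 6, 7]), (8007, [8, 3, 4, 2, 3, 8, 5, 6, 4, 5, 3, 4, 2, 3, 8, 9, 7, 6, 5, 4, 3, 8, 2, 3, 4, 5, 6, 7])], 0, 0),
    ([(7511, [1, 2, 3, 8, 4, 5, 3, 4, 2, 3, 8, 9, 8, 5, 3, 4, 1, 2, 3, 8, 0, 1, 2, 3, 4, 5, 6, 7]), (0, []), (10, [9, 8, 3, 4, 5, 6, 7]), (80, [3, 4, 1, 2, 3, 8, 0, 1, 2, 3, 4, 5, 6, 7]), (54, [8, 9, 5, 4, 3, 8, 2, 3, 4, 5, 6, 7]), (240, [6, 5, 2, 3, 4, 1, 2, 3, 8, 0, 1, 2, 3, 4, 5, 6, 7]), (351, [8, 6, 5, 2, 3, 4, 1, 2, 3, 8, 0, 1, 2, 3, 4,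 5, 6, 7]), (354, [9, 8, 5, 2, 3, 4, 1, 2, 3, 8, 0, 1, 2, 3, 4, 5, 6, 7]), (346, [3, 4, 5, 2, 3, 4, 1, 2, 3, 8, 0, 1, 2, 3, 4, 5, 6, 7]), (1383, [8, 9, 7, 6, 3, 4, 5, 2, 3, 4, 1, 2, 3, 8, 0, 1, 2, 3, 4, 5, 6, 7]), (2524, [5, 6, 7, 4, 5, 6, 3, 4, 5, 2, 3, 4, 1, 2, 3, 8, 0, 1, 2, 3, 4, 5, 6, 7]), (8005, [5, 4, 3, 8, 2, 3, 4, 1, 2, 3, 8, 7, 5, 6, 4, 5, 3, 4, 2, 3, 8, 1, 2, 3, 4, 5, 6, 7])], 0, 0),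
    ([(26716, [6, 5, 4, 3, 8, 9, 5, 4, 2, 3, 8, 7, 5, 6, 4, 5, 2, 3, 4, 1, 2, 3, 8, 9, 5, 3, 4, 1, 2, 3, 8, 0, 1, 2, 3, 4, 5, 6, 7]), (81, [5, 4, 1, 2, 3, 8, 0, 1, 2, 3, 4, 5, 6, 7]), (4, [4, 5, 6, 7]), (115, [2, 3, 4, 1, 2, 3, 8, 0, 1, 2, 3, 4, 5, 6, 7]), (76, [9, 7, 6, 5, 4, 3, 8, 2, 3, 4, 5, 6, 7]), (0, []), (245, [8, 9, 2, 3, 4, 1, 2, 3, 8, 0, 1, 2, 3, 4, 5, 6, 7]), (0, []), (244, [9, 8, 2, 3, 4, 1, 2, 3, 8, 0, 1, 2, 3, 4, 5, 6, 7]), (346, [3, 4, 5, 2, 3, 4, 1, 2, 3, 8, 0, 1, 2, 3, 4, 5, 6, 7]), (715, [9, 6, 3, 4, 5, 2, 3, 4, 1, 2, 3, 8, 0, 1, 2, 3, 4, 5, 6, 7]), (1878, [9, 7, 4, 5, 6, 3, 4, 5, 2, 3, 4, 1, 2, 3, 8, 0, 1, 2, 3, 4, 5, 6, 7]), (1,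 [7])], 0, 0),
    ([(25337, [4, 3, 8, 9, 4, 2, 3, 8, 5, 6, 3, 4, 5, 2, 3, 4, 1, 2, 3, 8, 9, 8, 6, 5, 3, 4, 1, 2, 3, 8, 0, 1, 2, 3, 4, 5, 6, 7]), (54, [8, 9, 5, 4, 3, 8, 2, 3, 4, 5, 6, 7]), (10, [9, 8, 3, 4, 5, 6, 7]), (501, [6, 3, 4, 5, 2, 3, 4, 1, 2, 3, 8, 0, 1, 2, 3, 4, 5, 6, 7]), (384, [5, 4, 2, 3, 8, 9, 1, 2, 3, 8, 0, 1, 2, 3, 4, 5, 6, 7]), (1018, [9, 3, 8, 7, 6, 5, 2, 3, 4, 1, 2, 3, 8, 0, 1, 2, 3, 4, 5, 6, 7]), (714, [7, 6, 3, 4, 5, 2, 3, 4, 1, 2, 3, 8, 0, 1, 2, 3, 4, 5, 6, 7]), (8006, [6, 5, 4, 3, 8, 2, 3, 4, 1, 2, 3, 8, 5, 6, 4, 5, 3, 4, 2, 3, 8, 1, 2, 3, 4, 5, 6, 7]), (0, [])], 0, 0),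
    ([(6740, [8, 4, 5, 3, 4, 1, 2, 3, 8, 9, 8, 4, 5, 2, 3, 4, 1, 2, 3, 8, 0, 1, 2, 3, 4, 5, 6, 7]), (3735, [2, 3, 8, 4, 5, 3, 4, 2, 3, 8, 9, 3, 4, 1, 2, 3, 8, 0, 1, 2, 3, 4, 5, 6, 7]), (501, [6, 3, 4, 5, 2, 3, 4, 1, 2, 3, 8, 0, 1, 2, 3, 4, 5, 6, 7]), (355, [8, 9, 5, 2, 3, 4, 1, 2, 3, 8, 0, 1, 2, 3, 4, 5, 6, 7]), (261, [4, 2, 3, 8, 9, 1, 2, 3, 8, 0, 1, 2, 3, 4, 5, 6, 7]), (1003, [9, 7, 6, 3, 4, 5, 2, 3, 4, 1, 2, 3, 8, 0, 1, 2, 3, 4, 5, 6, 7]), (1380, [6, 7, 5, 6, 3, 4, 5, 2, 3, 4, 1, 2, 3, 8, 0, 1, 2, 3, 4, 5, 6, 7]), (356, [4, 3, 8, 2, 3, 4, 1, 2, 3, 8, 0, 1, 2, 3, 4, 5, 6, 7]), (2524, [5, 6, 7, 4, 5, 6, 3, 4, 5, 2, 3, 4, 1, 2, 3, 8, 0, 1, 2, 3, 4,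 5, 6, 7]), (1, [7]), (8007, [8, 3, 4, 2, 3, 8, 5, 6, 4, 5, 3, 4, 2, 3, 8, 9, 7, 6, 5, 4, 3, 8, 2, 3, 4, 5, 6, 7])], 0, 0),
    ([(23705, [9, 5, 4, 3, 8, 6, 7, 5, 6, 3, 4, 5, 2, 3, 4, 1, 2, 3, 8, 9, 8, 5, 2, 3, 4, 1, 2, 3, 8, 0, 1, 2, 3, 4, 5, 6, 7]), (83, [8, 9, 1, 2, 3, 8, 0, 1, 2, 3, 4, 5, 6, 7]), (76, [9, 7, 6, 5, 4, 3, 8, 2, 3, 4, 5, 6, 7]), (79, [2, 3, 8, 9, 4, 3, 8, 2, 3, 4, 5, 6, 7]), (348, [8, 4, 5, 2, 3, 4, 1, 2, 3, 8, 0, 1, 2, 3, 4, 5, 6, 7]), (351, [8, 6, 5, 2, 3, 4, 1, 2, 3, 8, 0, 1, 2, 3, 4, 5, 6, 7]), (10, [9, 8, 3, 4, 5, 6, 7]), (4150, [3, 8, 2, 3, 4, 1, 2, 3, 8, 5, 6, 4, 5, 3, 4, 2, 3, 8, 1, 2, 3, 4, 5, 6, 7]), (3, [5, 6, 7]), (1000,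 [4, 5, 6, 3, 4, 5, 2, 3, 4, 1, 2, 3, 8, 0, 1, 2, 3, 4, 5, 6, 7]), (3321, [9, 5, 6, 7, 4, 5, 6, 3, 4, 5, 2, 3, 4, 1, 2, 3, 8, 0, 1, 2, 3, 4, 5, 6, 7]), (6531, [5, 4, 3, 8, 2, 3, 4, 1, 2, 3, 8, 5, 6, 4, 5, 3, 4, 2, 3, 8, 1, 2, 3, 4, 5, 6, 7])], 0, 0),
    ([(0, []), (17, [9, 8, 1, 2, 3, 4, 5, 6, 7]), (37, [9, 5, 4, 3, 8, 2, 3, 4, 5, 6, 7]), (31, [4, 2, 3, 8, 1, 2, 3, 4, 5, 6, 7]), (78, [3, 8, 9, 5, 4, 3, 8, 2, 3, 4, 5, 6, 7]), (80, [3, 4, 1, 2, 3, 8, 0, 1, 2, 3, 4, 5, 6, 7]), (54, [8, 9, 5, 4, 3, 8, 2, 3, 4, 5, 6, 7]), (241, [8, 5, 2, 3, 4, 1, 2, 3, 8, 0, 1, 2, 3, 4, 5, 6, 7]), (384, [5, 4, 2, 3, 8, 9, 1, 2, 3, 8, 0, 1, 2, 3, 4, 5, 6, 7]), (503, [5, 6,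 4, 5, 2, 3, 4, 1, 2, 3, 8, 0, 1, 2, 3, 4, 5, 6, 7]), (501, [6, 3, 4, 5, 2, 3, 4, 1, 2, 3, 8, 0, 1, 2, 3, 4, 5, 6, 7]), (1403, [8, 9, 3, 8, 7, 6, 5, 2, 3, 4, 1, 2, 3, 8, 0, 1, 2, 3, 4, 5, 6, 7]), (356, [4, 3, 8, 2, 3, 4, 1, 2, 3, 8, 0, 1, 2, 3, 4, 5, 6, 7]), (8005, [5, 4, 3, 8, 2, 3, 4, 1, 2, 3, 8, 7, 5, 6, 4, 5, 3, 4, 2, 3, 8, 1, 2, 3, 4, 5, 6, 7]), (8006, [6, 5, 4, 3, 8, 2, 3, 4, 1, 2, 3, 8, 5, 6, 4, 5, 3, 4, 2, 3, 8, 1, 2, 3, 4, 5, 6, 7])], 0, 0),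
    ([(30038, [4, 1, 2, 3, 8, 9, 7, 6, 5, 4, 3, 8, 6, 7, 5, 6, 4, 5, 2, 3, 4, 1, 2, 3, 8, 9, 4, 5, 2, 3, 4, 1, 2, 3, 8, 0, 1, 2, 3, 4, 5, 6, 7]), (10, [9, 8, 3, 4, 5, 6, 7]), (81, [5, 4, 1, 2, 3, 8, 0, 1, 2, 3, 4, 5, 6, 7]), (55, [3, 8, 9, 4, 3, 8, 2, 3, 4, 5, 6, 7]), (7, [8, 3, 4, 5, 6, 7]), (0, []), (352, [9, 6, 5, 2, 3, 4, 1, 2, 3, 8, 0, 1, 2, 3, 4, 5, 6, 7]), (4, [4, 5, 6, 7]), (1380, [6, 7, 5, 6, 3, 4, 5, 2, 3, 4, 1, 2, 3, 8, 0, 1, 2, 3, 4, 5, 6, 7]), (3, [5, 6, 7]), (1378, [7, 4, 5, 6, 3, 4, 5, 2, 3, 4, 1, 2, 3, 8, 0, 1, 2, 3, 4, 5, 6, 7]), (6531, [5, 4, 3, 8, 2, 3, 4, 1, 2, 3, 8, 5, 6, 4, 5, 3, 4, 2, 3, 8, 1, 2, 3, 4, 5, 6, 7]), (8006, [6, 5,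 4, 3, 8, 2, 3, 4, 1, 2, 3, 8, 5, 6, 4, 5, 3, 4, 2, 3, 8, 1, 2, 3, 4, 5, 6, 7]), (0, [])], 0, 0)],
  [([(19477, [8, 9, 4, 3, 8, 7, 5, 6, 4, 5, 2, 3, 4, 1, 2, 3, 8, 9, 4, 5, 3, 4, 1, 2, 3, 8, 0, 1, 2, 3, 4, 5, 6, 7]), (2, [6, 7]), (56, [4, 1, 2, 3, 8, 0, 1, 2, 3, 4, 5, 6, 7]), (110, [8, 9, 7, 6, 5, 4, 3, 8, 2, 3, 4, 5, 6, 7]), (83, [8, 9, 1, 2, 3, 8, 0, 1, 2, 3, 4, 5, 6, 7]), (113, [4, 3, 8, 9, 5, 4, 3, 8, 2, 3, 4, 5, 6, 7]), (0, []), (7, [8, 3, 4, 5, 6, 7]), (354, [9, 8, 5, 2, 3, 4, 1, 2, 3, 8, 0, 1, 2, 3, 4, 5, 6, 7]), (245, [8, 9, 2, 3, 4, 1, 2, 3, 8, 0, 1, 2, 3, 4, 5, 6, 7]), (243, [3, 8, 2, 3, 4, 1, 2, 3, 8, 0, 1, 2, 3, 4, 5, 6, 7]), (1382, [8, 9,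 5, 6, 3, 4, 5, 2, 3, 4, 1, 2, 3, 8, 0, 1, 2, 3, 4, 5, 6, 7]), (1000, [4, 5, 6, 3, 4, 5, 2, 3, 4, 1, 2, 3, 8, 0, 1, 2, 3, 4, 5, 6, 7]), (1878, [9, 7, 4, 5, 6, 3, 4, 5, 2, 3, 4, 1, 2, 3, 8, 0, 1, 2, 3, 4, 5, 6, 7]), (8002, [4, 3, 8, 2, 3, 4, 1, 2, 3, 8, 6, 7, 5, 6, 4, 5, 3, 4, 2, 3, 8, 1, 2, 3, 4, 5, 6, 7]), (8006, [6, 5, 4, 3, 8, 2, 3, 4, 1, 2, 3, 8, 5, 6, 4, 5, 3, 4, 2, 3, 8, 1, 2, 3, 4, 5, 6, 7]), (0, [])], 2, 5),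
    ([(23359, [9, 8, 3, 4, 2, 3, 8, 5, 6, 3, 4, 5, 2, 3, 4, 1, 2, 3, 8, 9, 4, 5, 2, 3, 4, 1, 2, 3, 8, 0, 1, 2, 3, 4, 5, 6, 7]), (36, [6, 5, 4, 3, 8, 2, 3, 4, 5, 6, 7]), (79, [2, 3, 8, 9, 4, 3, 8, 2, 3, 4, 5, 6, 7]), (56, [4, 1, 2, 3, 8, 0, 1, 2, 3, 4, 5, 6, 7]), (113, [4, 3, 8, 9, 5, 4, 3, 8, 2, 3, 4, 5, 6, 7]), (239, [4, 5, 2, 3, 4, 1, 2, 3, 8, 0, 1, 2, 3, 4, 5, 6, 7]), (10, [9, 8, 3, 4, 5, 6, 7]), (346, [3, 4, 5, 2, 3, 4, 1, 2, 3, 8, 0, 1, 2, 3, 4, 5, 6, 7]), (715, [9, 6, 3, 4, 5, 2, 3, 4, 1, 2, 3, 8, 0, 1, 2, 3, 4, 5, 6, 7]), (3, [5, 6, 7]), (1379, [9, 4, 5, 6, 3, 4, 5, 2, 3, 4, 1, 2, 3, 8, 0, 1, 2, 3, 4, 5, 6, 7]), (2524, [5, 6, 7, 4, 5, 6, 3, 4,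 5, 2, 3, 4, 1, 2, 3, 8, 0, 1, 2, 3, 4, 5, 6, 7]), (6531, [5, 4, 3, 8, 2, 3, 4, 1, 2, 3, 8, 5, 6, 4, 5, 3, 4, 2, 3, 8, 1, 2, 3, 4, 5, 6, 7]), (8006, [6, 5, 4, 3, 8, 2, 3, 4, 1, 2, 3, 8, 5, 6, 4, 5, 3, 4, 2, 3, 8, 1, 2, 3, 4, 5, 6, 7]), (0, [])], 1, 7),
    ([(2255, [6, 4, 5, 3, 4, 2, 3, 8, 9, 5, 3, 4, 2, 3, 8, 0, 1, 2, 3, 4, 5, 6, 7]), (2, [6, 7]), (53, [9, 6, 5, 4, 3, 8, 2, 3, 4, 5, 6, 7]), (83, [8, 9, 1, 2, 3, 8, 0, 1, 2, 3, 4, 5, 6, 7]), (52, [7, 6, 5, 4, 3, 8, 2, 3, 4, 5, 6, 7]), (79, [2, 3, 8, 9, 4, 3, 8, 2, 3, 4, 5, 6, 7]), (1, [7]), (261, [4, 2, 3, 8, 9, 1, 2, 3, 8, 0, 1, 2, 3, 4, 5, 6, 7]), (358, [8, 9, 8, 2, 3, 4, 1, 2, 3, 8, 0, 1, 2, 3, 4,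 5, 6, 7]), (1002, [9, 5, 6, 3, 4, 5, 2, 3, 4, 1, 2, 3, 8, 0, 1, 2, 3, 4, 5, 6, 7]), (511, [3, 8, 6, 5, 2, 3, 4, 1, 2, 3, 8, 0, 1, 2, 3, 4, 5, 6, 7]), (1378, [7, 4, 5, 6, 3, 4, 5, 2, 3, 4, 1, 2, 3, 8, 0, 1, 2, 3, 4, 5, 6, 7]), (8002, [4, 3, 8, 2, 3, 4, 1, 2, 3, 8, 6, 7, 5, 6, 4, 5, 3, 4, 2, 3, 8, 1, 2, 3, 4, 5, 6, 7]), (6531, [5, 4, 3, 8, 2, 3, 4, 1, 2, 3, 8, 5, 6, 4, 5, 3, 4, 2, 3, 8, 1, 2, 3, 4, 5, 6, 7]), (8007, [8, 3, 4, 2, 3, 8, 5, 6, 4, 5, 3, 4, 2, 3, 8, 9, 7, 6, 5, 4, 3, 8, 2, 3, 4, 5, 6, 7])], 1, 5),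
    ([(2, [6, 7]), (12, [8, 1, 2, 3, 4, 5, 6, 7]), (18, [4, 3, 8, 2, 3, 4, 5, 6, 7]), (0, []), (35, [8, 9, 3, 8, 1, 2, 3, 4, 5, 6, 7]), (25, [5, 4, 3, 8, 2, 3, 4, 5, 6, 7]), (82, [9, 4, 1, 2, 3, 8, 0, 1, 2, 3, 4, 5, 6, 7]), (0, []), (80, [3, 4, 1, 2, 3, 8, 0, 1, 2, 3, 4, 5, 6, 7]), (7, [8, 3, 4, 5, 6, 7]), (347, [6, 4, 5, 2, 3, 4, 1, 2, 3, 8, 0, 1, 2, 3, 4, 5, 6, 7]), (354, [9, 8, 5, 2, 3, 4, 1, 2, 3, 8, 0, 1, 2, 3, 4, 5, 6, 7]), (346, [3, 4, 5, 2, 3, 4, 1, 2, 3, 8, 0, 1, 2, 3, 4, 5, 6, 7]), (1018, [9, 3, 8, 7, 6, 5, 2, 3, 4, 1, 2, 3, 8, 0, 1, 2, 3, 4, 5, 6, 7]), (3, [5, 6, 7]), (1378, [7, 4, 5, 6, 3, 4, 5, 2, 3, 4, 1, 2, 3, 8, 0, 1, 2, 3, 4, 5, 6,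 7]), (3321, [9, 5, 6, 7, 4, 5, 6, 3, 4, 5, 2, 3, 4, 1, 2, 3, 8, 0, 1, 2, 3, 4, 5, 6, 7]), (8006, [6, 5, 4, 3, 8, 2, 3, 4, 1, 2, 3, 8, 5, 6, 4, 5, 3, 4, 2, 3, 8, 1, 2, 3, 4, 5, 6, 7]), (8007, [8, 3, 4, 2, 3, 8, 5, 6, 4, 5, 3, 4, 2, 3, 8, 9, 7, 6, 5, 4, 3, 8, 2, 3, 4, 5, 6, 7])], 0, 1),
    ([(18880, [3, 8, 9, 6, 5, 4, 3, 8, 5, 2, 3, 4, 1, 2, 3, 8, 9, 6, 5, 2, 3, 4, 1, 2, 3, 8, 0, 1, 2, 3, 4, 5, 6, 7]), (57, [9, 1, 2, 3, 8, 0, 1, 2, 3, 4, 5, 6, 7]), (78, [3, 8, 9, 5, 4, 3, 8, 2, 3, 4, 5, 6, 7]), (1, [7]), (14, [9, 8, 2, 3, 4, 5, 6, 7]), (352, [9, 6, 5, 2, 3, 4, 1, 2, 3, 8, 0, 1, 2, 3, 4, 5, 6, 7]), (166, [8, 2, 3, 4, 1, 2, 3, 8, 0, 1, 2, 3, 4, 5, 6, 7]),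 (242, [9, 5, 2, 3, 4, 1, 2, 3, 8, 0, 1, 2, 3, 4, 5, 6, 7]), (1003, [9, 7, 6, 3, 4, 5, 2, 3, 4, 1, 2, 3, 8, 0, 1, 2, 3, 4, 5, 6, 7]), (1383, [8, 9, 7, 6, 3, 4, 5, 2, 3, 4, 1, 2, 3, 8, 0, 1, 2, 3, 4, 5, 6, 7]), (1379, [9, 4, 5, 6, 3, 4, 5, 2, 3, 4, 1, 2, 3, 8, 0, 1, 2, 3, 4, 5, 6, 7]), (8002, [4, 3, 8, 2, 3, 4, 1, 2, 3, 8, 6, 7, 5, 6, 4, 5, 3, 4, 2, 3, 8, 1, 2, 3, 4, 5, 6, 7]), (2524, [5, 6, 7, 4, 5, 6, 3, 4, 5, 2, 3, 4, 1, 2, 3, 8, 0, 1, 2, 3, 4, 5, 6, 7]), (6531, [5, 4, 3, 8, 2, 3, 4, 1, 2, 3, 8, 5, 6, 4, 5, 3, 4, 2, 3, 8, 1, 2, 3, 4, 5, 6, 7]), (0, [])], 2, 7),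
    ([(18933, [3, 8, 7, 4, 5, 6, 3, 4, 5, 2, 3, 4, 1, 2, 3, 8, 9, 8, 5, 2, 3, 4, 1, 2, 3, 8, 0, 1, 2, 3, 4, 5, 6, 7]), (3338, [5, 4, 2, 3, 8, 9, 6, 3, 4, 5, 2, 3, 4, 1, 2, 3, 8, 0, 1, 2, 3, 4, 5, 6, 7]), (245, [8, 9, 2, 3, 4, 1, 2, 3, 8, 0, 1, 2, 3, 4, 5, 6, 7]), (354, [9, 8, 5, 2, 3, 4, 1, 2, 3, 8, 0, 1, 2, 3, 4, 5, 6, 7]), (2, [6, 7]), (518, [8, 9, 3, 8, 2, 3, 4, 1, 2, 3, 8, 0, 1, 2, 3, 4, 5, 6, 7]), (357, [9, 3, 8, 2, 3, 4, 1, 2, 3, 8, 0, 1, 2, 3, 4, 5, 6, 7]), (1878, [9, 7, 4, 5, 6, 3, 4, 5, 2, 3, 4, 1, 2, 3, 8, 0, 1, 2, 3, 4, 5, 6, 7]), (2524, [5, 6, 7, 4, 5, 6, 3, 4, 5, 2, 3, 4, 1, 2, 3, 8, 0, 1, 2, 3, 4, 5, 6, 7]), (8005, [5, 4, 3, 8, 2, 3, 4,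 1, 2, 3, 8, 7, 5, 6, 4, 5, 3, 4, 2, 3, 8, 1, 2, 3, 4, 5, 6, 7]), (0, [])], 3, 7),
    ([(20668, [9, 6, 5, 4, 3, 8, 6, 3, 4, 5, 2, 3, 4, 1, 2, 3, 8, 9, 6, 5, 2, 3, 4, 1, 2, 3, 8, 0, 1, 2, 3, 4, 5, 6, 7]), (7210, [7, 6, 4, 5, 3, 4, 2, 3, 8, 9, 8, 6, 4, 5, 3, 4, 1, 2, 3, 8, 0, 1, 2, 3, 4, 5, 6, 7]), (167, [9, 2, 3, 4, 1, 2, 3, 8, 0, 1, 2, 3, 4, 5, 6, 7]), (503, [5, 6, 4, 5, 2, 3, 4, 1, 2, 3, 8, 0, 1, 2, 3, 4, 5, 6, 7]), (354, [9, 8, 5, 2, 3, 4, 1, 2, 3, 8, 0, 1, 2, 3, 4, 5, 6, 7]), (715, [9, 6, 3, 4, 5, 2, 3, 4, 1, 2, 3, 8, 0, 1, 2, 3, 4, 5, 6, 7]), (1380, [6, 7, 5, 6, 3, 4, 5, 2, 3, 4, 1, 2, 3, 8, 0, 1, 2, 3, 4, 5, 6, 7]), (1000, [4, 5, 6, 3, 4, 5, 2,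 3, 4, 1, 2, 3, 8, 0, 1, 2, 3, 4, 5, 6, 7]), (6529, [4, 3, 8, 2, 3, 4, 1, 2, 3, 8, 7, 5, 6, 4, 5, 3, 4, 2, 3, 8, 1, 2, 3, 4, 5, 6, 7]), (6531, [5, 4, 3, 8, 2, 3, 4, 1, 2, 3, 8, 5, 6, 4, 5, 3, 4, 2, 3, 8, 1, 2, 3, 4, 5, 6, 7]), (8007, [8, 3, 4, 2, 3, 8, 5, 6, 4, 5, 3, 4, 2, 3, 8, 9, 7, 6, 5, 4, 3, 8, 2, 3, 4, 5, 6, 7])], 2, 6),
    ([(8727, [9, 8, 5, 3, 4, 1, 2, 3, 8, 9, 8, 5, 6, 4, 5, 3, 4, 1, 2, 3, 8, 0, 1, 2, 3, 4, 5, 6, 7]), (1, [7]), (83, [8, 9, 1, 2, 3, 8, 0, 1, 2, 3, 4, 5, 6, 7]), (18, [4, 3, 8, 2, 3, 4, 5, 6, 7]), (111, [3, 8, 9, 6, 5, 4, 3, 8, 2, 3, 4, 5, 6, 7]), (0, []), (2, [6, 7]), (240, [6, 5, 2, 3, 4, 1, 2, 3, 8, 0, 1, 2, 3, 4, 5, 6, 7]),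 (355, [8, 9, 5, 2, 3, 4, 1, 2, 3, 8, 0, 1, 2, 3, 4, 5, 6, 7]), (501, [6, 3, 4, 5, 2, 3, 4, 1, 2, 3, 8, 0, 1, 2, 3, 4, 5, 6, 7]), (1381, [9, 7, 5, 6, 3, 4, 5, 2, 3, 4, 1, 2, 3, 8, 0, 1, 2, 3, 4, 5, 6, 7]), (3, [5, 6, 7]), (1378, [7, 4, 5, 6, 3, 4, 5, 2, 3, 4, 1, 2, 3, 8, 0, 1, 2, 3, 4, 5, 6, 7]), (2525, [9, 6, 7, 4, 5, 6, 3, 4, 5, 2, 3, 4, 1, 2, 3, 8, 0, 1, 2, 3, 4, 5, 6, 7]), (6531, [5, 4, 3, 8, 2, 3, 4, 1, 2, 3, 8, 5, 6, 4, 5, 3, 4, 2, 3, 8, 1, 2, 3, 4, 5, 6, 7]), (8006, [6, 5, 4, 3, 8, 2, 3, 4, 1, 2, 3, 8, 5, 6, 4, 5, 3, 4, 2, 3, 8, 1, 2, 3, 4, 5, 6, 7]), (0, []), (8007, [8, 3, 4, 2, 3, 8, 5, 6, 4, 5, 3, 4, 2, 3, 8, 9, 7, 6, 5, 4, 3, 8, 2, 3, 4, 5,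 6, 7])], 1, 4)],
  [([(19439, [9, 2, 3, 8, 7, 5, 6, 3, 4, 5, 2, 3, 4, 1, 2, 3, 8, 9, 4, 5, 3, 4, 1, 2, 3, 8, 0, 1, 2, 3, 4, 5, 6, 7]), (1, [7]), (10, [9, 8, 3, 4, 5, 6, 7]), (83, [8, 9, 1, 2, 3, 8, 0, 1, 2, 3, 4, 5, 6, 7]), (113, [4, 3, 8, 9, 5, 4, 3, 8, 2, 3, 4, 5, 6, 7]), (4381, [7, 6, 5, 4, 3, 8, 9, 3, 8, 6, 5, 2, 3, 4, 1, 2, 3, 8, 0, 1, 2, 3, 4, 5, 6, 7]), (2, [6, 7]), (4, [4, 5, 6, 7]), (1381, [9, 7, 5, 6, 3, 4, 5, 2, 3, 4, 1, 2, 3, 8, 0, 1, 2, 3, 4, 5, 6, 7]), (5268, [4, 3, 8, 2, 3, 4, 1, 2, 3, 8, 5, 6, 4, 5, 3, 4, 2, 3, 8, 1, 2, 3, 4, 5, 6, 7]), (2, [6, 7]), (2524, [5, 6, 7, 4, 5, 6, 3, 4, 5, 2, 3, 4, 1, 2, 3, 8, 0, 1, 2, 3, 4, 5, 6, 7]), (1,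 [7])], 1, 3),
    ([(29590, [2, 3, 4, 0, 1, 2, 3, 8, 9, 5, 4, 3, 8, 5, 6, 3, 4, 5, 2, 3, 4, 1, 2, 3, 8, 9, 5, 2, 3, 4, 1, 2, 3, 8, 0, 1, 2, 3, 4, 5, 6, 7]), (39, [1, 2, 3, 8, 0, 1, 2, 3, 4, 5, 6, 7]), (25, [5, 4, 3, 8, 2, 3, 4, 5, 6, 7]), (55, [3, 8, 9, 4, 3, 8, 2, 3, 4, 5, 6, 7]), (56, [4, 1, 2, 3, 8, 0, 1, 2, 3, 4, 5, 6, 7]), (76, [9, 7, 6, 5, 4, 3, 8, 2, 3, 4, 5, 6, 7]), (349, [9, 4, 5, 2, 3, 4, 1, 2, 3, 8, 0, 1, 2, 3, 4, 5, 6, 7]), (240, [6, 5, 2, 3, 4, 1, 2, 3, 8, 0, 1, 2, 3, 4, 5, 6, 7]), (358, [8, 9, 8, 2, 3, 4, 1, 2, 3, 8, 0, 1, 2, 3, 4, 5, 6, 7]), (511, [3, 8, 6, 5, 2, 3, 4, 1, 2, 3, 8, 0, 1, 2, 3, 4, 5, 6, 7]), (1000, [4, 5, 6, 3, 4, 5, 2,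 3, 4, 1, 2, 3, 8, 0, 1, 2, 3, 4, 5, 6, 7]), (1878, [9, 7, 4, 5, 6, 3, 4, 5, 2, 3, 4, 1, 2, 3, 8, 0, 1, 2, 3, 4, 5, 6, 7]), (8002, [4, 3, 8, 2, 3, 4, 1, 2, 3, 8, 6, 7, 5, 6, 4, 5, 3, 4, 2, 3, 8, 1, 2, 3, 4, 5, 6, 7]), (6531, [5, 4, 3, 8, 2, 3, 4, 1, 2, 3, 8, 5, 6, 4, 5, 3, 4, 2, 3, 8, 1, 2, 3, 4, 5, 6, 7]), (8006, [6, 5, 4, 3, 8, 2, 3, 4, 1, 2, 3, 8, 5, 6, 4, 5, 3, 4, 2, 3, 8, 1, 2, 3, 4, 5, 6, 7]), (0, [])], 2, 7),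
    ([(13122, [9, 1, 2, 3, 8, 6, 4, 5, 3, 4, 2, 3, 8, 9, 7, 6, 5, 3, 4, 1, 2, 3, 8, 0, 1, 2, 3, 4, 5, 6, 7]), (4379, [8, 3, 4, 2, 3, 8, 9, 3, 8, 6, 5, 2, 3, 4, 1, 2, 3, 8, 0, 1, 2, 3, 4, 5, 6, 7]), (7, [8, 3, 4, 5, 6, 7]), (352, [9, 6, 5, 2, 3, 4, 1, 2, 3, 8, 0, 1, 2, 3, 4, 5, 6, 7]), (355, [8, 9, 5, 2, 3, 4, 1, 2, 3, 8, 0, 1, 2, 3, 4, 5, 6, 7]), (2, [6, 7]), (243, [3, 8, 2, 3, 4, 1, 2, 3, 8, 0, 1, 2, 3, 4, 5, 6, 7]), (518, [8, 9, 3, 8, 2, 3, 4, 1, 2, 3, 8, 0, 1, 2, 3, 4, 5, 6, 7]), (1000, [4, 5, 6, 3, 4, 5, 2, 3, 4, 1, 2, 3, 8, 0, 1, 2, 3, 4, 5, 6, 7]), (6529, [4, 3, 8, 2, 3, 4, 1, 2, 3, 8, 7, 5, 6, 4, 5, 3, 4, 2, 3, 8, 1, 2, 3, 4, 5, 6, 7]), (2524,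 [5, 6, 7, 4, 5, 6, 3, 4, 5, 2, 3, 4, 1, 2, 3, 8, 0, 1, 2, 3, 4, 5, 6, 7]), (0, [])], 3, 4),
    ([(28625, [4, 2, 3, 8, 9, 6, 5, 4, 2, 3, 8, 6, 7, 5, 6, 4, 5, 2, 3, 4, 1, 2, 3, 8, 9, 5, 2, 3, 4, 1, 2, 3, 8, 0, 1, 2, 3, 4, 5, 6, 7]), (25, [5, 4, 3, 8, 2, 3, 4, 5, 6, 7]), (76, [9, 7, 6, 5, 4, 3, 8, 2, 3, 4, 5, 6, 7]), (81, [5, 4, 1, 2, 3, 8, 0, 1, 2, 3, 4, 5, 6, 7]), (77, [8, 9, 6, 5, 4, 3, 8, 2, 3, 4, 5, 6, 7]), (166, [8, 2, 3, 4, 1, 2, 3, 8, 0, 1, 2, 3, 4, 5, 6, 7]), (352, [9, 6, 5, 2, 3, 4, 1, 2, 3, 8, 0, 1, 2, 3, 4, 5, 6, 7]), (261, [4, 2, 3, 8, 9, 1, 2, 3, 8, 0, 1, 2, 3, 4, 5, 6, 7]), (1021, [8, 9, 3, 8, 6, 5, 2, 3, 4, 1, 2, 3, 8, 0, 1, 2, 3, 4, 5,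 6, 7]), (4, [4, 5, 6, 7]), (3, [5, 6, 7]), (1378, [7, 4, 5, 6, 3, 4, 5, 2, 3, 4, 1, 2, 3, 8, 0, 1, 2, 3, 4, 5, 6, 7]), (6531, [5, 4, 3, 8, 2, 3, 4, 1, 2, 3, 8, 5, 6, 4, 5, 3, 4, 2, 3, 8, 1, 2, 3, 4, 5, 6, 7]), (8007, [8, 3, 4, 2, 3, 8, 5, 6, 4, 5, 3, 4, 2, 3, 8, 9, 7, 6, 5, 4, 3, 8, 2, 3, 4, 5, 6, 7])], 0, 7),
    ([(15315, [9, 3, 8, 3, 4, 5, 2, 3, 4, 1, 2, 3, 8, 9, 8, 7, 6, 5, 3, 4, 1, 2, 3, 8, 0, 1, 2, 3, 4, 5, 6, 7]), (0, []), (115, [2, 3, 4, 1, 2, 3, 8, 0, 1, 2, 3, 4, 5, 6, 7]), (52, [7, 6, 5, 4, 3, 8, 2, 3, 4, 5, 6, 7]), (57, [9, 1, 2, 3, 8, 0, 1, 2, 3, 4, 5, 6, 7]), (2, [6, 7]), (355, [8, 9, 5, 2, 3, 4, 1, 2, 3, 8, 0, 1, 2, 3, 4, 5, 6, 7]), (115,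 [2, 3, 4, 1, 2, 3, 8, 0, 1, 2, 3, 4, 5, 6, 7]), (4, [4, 5, 6, 7]), (1003, [9, 7, 6, 3, 4, 5, 2, 3, 4, 1, 2, 3, 8, 0, 1, 2, 3, 4, 5, 6, 7]), (1378, [7, 4, 5, 6, 3, 4, 5, 2, 3, 4, 1, 2, 3, 8, 0, 1, 2, 3, 4, 5, 6, 7]), (2525, [9, 6, 7, 4, 5, 6, 3, 4, 5, 2, 3, 4, 1, 2, 3, 8, 0, 1, 2, 3, 4, 5, 6, 7]), (3321, [9, 5, 6, 7, 4, 5, 6, 3, 4, 5, 2, 3, 4, 1, 2, 3, 8, 0, 1, 2, 3, 4, 5, 6, 7]), (6531, [5, 4, 3, 8, 2, 3, 4, 1, 2, 3, 8, 5, 6, 4, 5, 3, 4, 2, 3, 8, 1, 2, 3, 4, 5, 6, 7]), (8006, [6, 5, 4, 3, 8, 2, 3, 4, 1, 2, 3, 8, 5, 6, 4, 5, 3, 4, 2, 3, 8, 1, 2, 3, 4, 5, 6, 7]), (8007, [8, 3, 4, 2, 3, 8, 5, 6, 4, 5, 3, 4, 2, 3, 8, 9, 7, 6, 5, 4, 3, 8, 2, 3, 4, 5, 6,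 7])], 2, 5),
    ([(18880, [3, 8, 9, 6, 5, 4, 3, 8, 5, 2, 3, 4, 1, 2, 3, 8, 9, 6, 5, 2, 3, 4, 1, 2, 3, 8, 0, 1, 2, 3, 4, 5, 6, 7]), (1, [7]), (14, [9, 8, 2, 3, 4, 5, 6, 7]), (81, [5, 4, 1, 2, 3, 8, 0, 1, 2, 3, 4, 5, 6, 7]), (55, [3, 8, 9, 4, 3, 8, 2, 3, 4, 5, 6, 7]), (359, [3, 8, 9, 2, 3, 4, 1, 2, 3, 8, 0, 1, 2, 3, 4, 5, 6, 7]), (349, [9, 4, 5, 2, 3, 4, 1, 2, 3, 8, 0, 1, 2, 3, 4, 5, 6, 7]), (346, [3, 4, 5, 2, 3, 4, 1, 2, 3, 8, 0, 1, 2, 3, 4, 5, 6, 7]), (1403, [8, 9, 3, 8, 7, 6, 5, 2, 3, 4, 1, 2, 3, 8, 0, 1, 2, 3, 4, 5, 6, 7]), (3, [5, 6, 7]), (2, [6, 7]), (0, []), (8007, [8, 3, 4, 2, 3, 8, 5, 6, 4, 5, 3, 4, 2, 3, 8, 9, 7, 6, 5, 4, 3, 8, 2, 3, 4, 5,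 6, 7])], 2, 3),
    ([(20077, [6, 5, 4, 3, 8, 6, 3, 4, 5, 2, 3, 4, 1, 2, 3, 8, 9, 6, 4, 5, 2, 3, 4, 1, 2, 3, 8, 0, 1, 2, 3, 4, 5, 6, 7]), (3, [5, 6, 7]), (111, [3, 8, 9, 6, 5, 4, 3, 8, 2, 3, 4, 5, 6, 7]), (57, [9, 1, 2, 3, 8, 0, 1, 2, 3, 4, 5, 6, 7]), (113, [4, 3, 8, 9, 5, 4, 3, 8, 2, 3, 4, 5, 6, 7]), (81, [5, 4, 1, 2, 3, 8, 0, 1, 2, 3, 4, 5, 6, 7]), (359, [3, 8, 9, 2, 3, 4, 1, 2, 3, 8, 0, 1, 2, 3, 4, 5, 6, 7]), (349, [9, 4, 5, 2, 3, 4, 1, 2, 3, 8, 0, 1, 2, 3, 4, 5, 6, 7]), (503, [5, 6, 4, 5, 2, 3, 4, 1, 2, 3, 8, 0, 1, 2, 3, 4, 5, 6, 7]), (357, [9, 3, 8, 2, 3, 4, 1, 2, 3, 8, 0, 1, 2, 3, 4, 5, 6, 7]), (502, [9, 3, 4, 5, 2, 3, 4, 1, 2, 3, 8, 0, 1, 2,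 3, 4, 5, 6, 7]), (1378, [7, 4, 5, 6, 3, 4, 5, 2, 3, 4, 1, 2, 3, 8, 0, 1, 2, 3, 4, 5, 6, 7]), (2525, [9, 6, 7, 4, 5, 6, 3, 4, 5, 2, 3, 4, 1, 2, 3, 8, 0, 1, 2, 3, 4, 5, 6, 7]), (2, [6, 7]), (3321, [9, 5, 6, 7, 4, 5, 6, 3, 4, 5, 2, 3, 4, 1, 2, 3, 8, 0, 1, 2, 3, 4, 5, 6, 7]), (1, [7]), (0, []), (8007, [8, 3, 4, 2, 3, 8, 5, 6, 4, 5, 3, 4, 2, 3, 8, 9, 7, 6, 5, 4, 3, 8, 2, 3, 4, 5, 6, 7])], 1, 6)],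
  [([(26648, [1, 2, 3, 8, 9, 3, 4, 1, 2, 3, 8, 5, 6, 4, 5, 2, 3, 4, 0, 1, 2, 3, 8, 9, 5, 3, 4, 1, 2, 3, 8, 0, 1, 2, 3, 4, 5, 6, 7]), (14, [9, 8, 2, 3, 4, 5, 6, 7]), (81, [5, 4, 1, 2, 3, 8, 0, 1, 2, 3, 4, 5, 6, 7]), (111, [3, 8, 9, 6, 5, 4, 3, 8, 2, 3, 4, 5, 6, 7]), (166, [8, 2, 3, 4, 1, 2, 3, 8, 0, 1, 2, 3, 4, 5, 6, 7]), (352, [9, 6, 5, 2, 3, 4, 1, 2, 3, 8, 0, 1, 2, 3, 4, 5, 6, 7]), (239, [4, 5, 2, 3, 4, 1, 2, 3, 8, 0, 1, 2, 3, 4, 5, 6, 7]), (715, [9, 6, 3, 4, 5, 2, 3, 4, 1, 2, 3, 8, 0, 1, 2, 3, 4, 5, 6, 7]), (1383, [8, 9, 7, 6, 3, 4, 5, 2, 3, 4, 1, 2, 3, 8, 0, 1, 2, 3, 4, 5, 6, 7]), (3, [5, 6, 7]), (1878, [9, 7, 4, 5, 6, 3, 4, 5, 2, 3, 4, 1, 2, 3,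 8, 0, 1, 2, 3, 4, 5, 6, 7]), (2524, [5, 6, 7, 4, 5, 6, 3, 4, 5, 2, 3, 4, 1, 2, 3, 8, 0, 1, 2, 3, 4, 5, 6, 7])], 0, 1),
    ([(24053, [3, 8, 9, 3, 4, 1, 2, 3, 8, 5, 6, 4, 5, 3, 4, 0, 1, 2, 3, 8, 9, 4, 5, 3, 4, 1, 2, 3, 8, 0, 1, 2, 3, 4, 5, 6, 7]), (0, []), (78, [3, 8, 9, 5, 4, 3, 8, 2, 3, 4, 5, 6, 7]), (80, [3, 4, 1, 2, 3, 8, 0, 1, 2, 3, 4, 5, 6, 7]), (112, [2, 3, 8, 9, 5, 4, 3, 8, 2, 3, 4, 5, 6, 7]), (501, [6, 3, 4, 5, 2, 3, 4, 1, 2, 3, 8, 0, 1, 2, 3, 4, 5, 6, 7]), (242, [9, 5, 2, 3, 4, 1, 2, 3, 8, 0, 1, 2, 3, 4, 5, 6, 7]), (166, [8, 2, 3, 4, 1, 2, 3, 8, 0, 1, 2, 3, 4, 5, 6, 7]), (714, [7, 6, 3, 4, 5, 2, 3, 4, 1, 2, 3, 8, 0, 1, 2, 3, 4, 5, 6, 7]), (1018,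 [9, 3, 8, 7, 6, 5, 2, 3, 4, 1, 2, 3, 8, 0, 1, 2, 3, 4, 5, 6, 7]), (356, [4, 3, 8, 2, 3, 4, 1, 2, 3, 8, 0, 1, 2, 3, 4, 5, 6, 7]), (2524, [5, 6, 7, 4, 5, 6, 3, 4, 5, 2, 3, 4, 1, 2, 3, 8, 0, 1, 2, 3, 4, 5, 6, 7]), (6531, [5, 4, 3, 8, 2, 3, 4, 1, 2, 3, 8, 5, 6, 4, 5, 3, 4, 2, 3, 8, 1, 2, 3, 4, 5, 6, 7]), (1, [7]), (8007, [8, 3, 4, 2, 3, 8, 5, 6, 4, 5, 3, 4, 2, 3, 8, 9, 7, 6, 5, 4, 3, 8, 2, 3, 4, 5, 6, 7])], 4, 6),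
    ([(24524, [2, 3, 8, 9, 4, 3, 8, 5, 6, 4, 5, 1, 2, 3, 4, 0, 1, 2, 3, 8, 9, 4, 5, 2, 3, 4, 1, 2, 3, 8, 0, 1, 2, 3, 4, 5, 6, 7]), (0, []), (111, [3, 8, 9, 6, 5, 4, 3, 8, 2, 3, 4, 5, 6, 7]), (115, [2, 3, 4, 1, 2, 3, 8, 0, 1, 2, 3, 4, 5, 6, 7]), (83, [8, 9, 1, 2, 3, 8, 0, 1, 2, 3, 4, 5, 6, 7]), (350, [7, 6, 5, 2, 3, 4, 1, 2, 3, 8, 0, 1, 2, 3, 4, 5, 6, 7]), (245, [8, 9, 2, 3, 4, 1, 2, 3, 8, 0, 1, 2, 3, 4, 5, 6, 7]), (351, [8, 6, 5, 2, 3, 4, 1, 2, 3, 8, 0, 1, 2, 3, 4, 5, 6, 7]), (0, []), (518, [8, 9, 3, 8, 2, 3, 4, 1, 2, 3, 8, 0, 1, 2, 3, 4, 5, 6, 7]), (4, [4, 5, 6, 7]), (5268, [4, 3, 8, 2, 3, 4, 1, 2, 3, 8, 5, 6, 4, 5, 3, 4, 2, 3, 8, 1, 2, 3, 4, 5, 6,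 7]), (8005, [5, 4, 3, 8, 2, 3, 4, 1, 2, 3, 8, 7, 5, 6, 4, 5, 3, 4, 2, 3, 8, 1, 2, 3, 4, 5, 6, 7]), (0, []), (8007, [8, 3, 4, 2, 3, 8, 5, 6, 4, 5, 3, 4, 2, 3, 8, 9, 7, 6, 5, 4, 3, 8, 2, 3, 4, 5, 6, 7])], 1, 5),
    ([(24398, [4, 3, 8, 9, 6, 5, 3, 4, 2, 3, 8, 5, 6, 4, 5, 2, 3, 4, 1, 2, 3, 8, 9, 5, 4, 1, 2, 3, 8, 0, 1, 2, 3, 4, 5, 6, 7]), (6, [2, 3, 4, 5, 6, 7]), (10, [9, 8, 3, 4, 5, 6, 7]), (81, [5, 4, 1, 2, 3, 8, 0, 1, 2, 3, 4, 5, 6, 7]), (10, [9, 8, 3, 4, 5, 6, 7]), (348, [8, 4, 5, 2, 3, 4, 1, 2, 3, 8, 0, 1, 2, 3, 4, 5, 6, 7]), (243, [3, 8, 2, 3, 4, 1, 2, 3, 8, 0, 1, 2, 3, 4, 5, 6, 7]), (346, [3, 4, 5, 2, 3, 4, 1, 2, 3, 8, 0, 1, 2, 3, 4, 5, 6, 7]),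 (1378, [7, 4, 5, 6, 3, 4, 5, 2, 3, 4, 1, 2, 3, 8, 0, 1, 2, 3, 4, 5, 6, 7]), (2524, [5, 6, 7, 4, 5, 6, 3, 4, 5, 2, 3, 4, 1, 2, 3, 8, 0, 1, 2, 3, 4, 5, 6, 7]), (0, []), (8007, [8, 3, 4, 2, 3, 8, 5, 6, 4, 5, 3, 4, 2, 3, 8, 9, 7, 6, 5, 4, 3, 8, 2, 3, 4, 5, 6, 7])], 1, 6),
    ([(25110, [2, 3, 8, 9, 7, 6, 5, 4, 3, 8, 7, 6, 4, 5, 2, 3, 4, 1, 2, 3, 8, 9, 5, 2, 3, 4, 1, 2, 3, 8, 0, 1, 2, 3, 4, 5, 6, 7]), (2, [6, 7]), (14, [9, 8, 2, 3, 4, 5, 6, 7]), (113, [4, 3, 8, 9, 5, 4, 3, 8, 2, 3, 4, 5, 6, 7]), (0, []), (115, [2, 3, 4, 1, 2, 3, 8, 0, 1, 2, 3, 4, 5, 6, 7]), (242, [9, 5, 2, 3, 4, 1, 2, 3, 8, 0, 1, 2, 3, 4, 5, 6, 7]), (261, [4, 2, 3, 8, 9, 1, 2, 3, 8, 0, 1,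 2, 3, 4, 5, 6, 7]), (501, [6, 3, 4, 5, 2, 3, 4, 1, 2, 3, 8, 0, 1, 2, 3, 4, 5, 6, 7]), (1018, [9, 3, 8, 7, 6, 5, 2, 3, 4, 1, 2, 3, 8, 0, 1, 2, 3, 4, 5, 6, 7]), (3, [5, 6, 7]), (1000, [4, 5, 6, 3, 4, 5, 2, 3, 4, 1, 2, 3, 8, 0, 1, 2, 3, 4, 5, 6, 7]), (1878, [9, 7, 4, 5, 6, 3, 4, 5, 2, 3, 4, 1, 2, 3, 8, 0, 1, 2, 3, 4, 5, 6, 7]), (2, [6, 7]), (0, [])], 3, 4),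
    ([(24344, [2, 3, 8, 9, 4, 1, 2, 3, 8, 7, 5, 6, 4, 5, 2, 3, 4, 1, 2, 3, 8, 9, 5, 3, 4, 1, 2, 3, 8, 0, 1, 2, 3, 4, 5, 6, 7]), (3, [5, 6, 7]), (6, [2, 3, 4, 5, 6, 7]), (82, [9, 4, 1, 2, 3, 8, 0, 1, 2, 3, 4, 5, 6, 7]), (501, [6, 3, 4, 5, 2, 3, 4, 1, 2, 3, 8, 0, 1, 2, 3, 4, 5, 6, 7]), (240, [6, 5, 2, 3, 4, 1, 2, 3, 8, 0, 1, 2, 3, 4, 5, 6, 7]), (384, [5, 4, 2, 3, 8, 9, 1, 2, 3, 8, 0, 1, 2, 3, 4, 5, 6, 7]), (346, [3, 4, 5, 2, 3, 4, 1, 2, 3, 8, 0, 1, 2, 3, 4, 5, 6, 7]), (1018, [9, 3, 8, 7, 6, 5, 2, 3, 4, 1, 2, 3, 8, 0, 1, 2, 3, 4, 5, 6, 7]), (1378, [7, 4, 5, 6, 3, 4, 5, 2, 3, 4, 1, 2, 3, 8, 0, 1, 2, 3, 4, 5, 6, 7]), (2, [6, 7]), (3321, [9, 5, 6, 7, 4, 5,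 6, 3, 4, 5, 2, 3, 4, 1, 2, 3, 8, 0, 1, 2, 3, 4, 5, 6, 7]), (1, [7]), (8007, [8, 3, 4, 2, 3, 8, 5, 6, 4, 5, 3, 4, 2, 3, 8, 9, 7, 6, 5, 4, 3, 8, 2, 3, 4, 5, 6, 7])], 1, 2),
    ([(19119, [7, 6, 5, 4, 2, 3, 8, 3, 4, 5, 2, 3, 4, 1, 2, 3, 8, 9, 5, 2, 3, 4, 1, 2, 3, 8, 0, 1, 2, 3, 4, 5, 6, 7]), (8890, [9, 8, 5, 6, 4, 5, 3, 4, 2, 3, 8, 9, 8, 4, 5, 3, 4, 1, 2, 3, 8, 0, 1, 2, 3, 4, 5, 6, 7]), (5, [3, 4, 5, 6, 7]), (10, [9, 8, 3, 4, 5, 6, 7]), (503, [5, 6, 4, 5, 2, 3, 4, 1, 2, 3, 8, 0, 1, 2, 3, 4, 5, 6, 7]), (346, [3, 4, 5, 2, 3, 4, 1, 2, 3, 8, 0, 1, 2, 3, 4, 5, 6, 7]), (715, [9, 6, 3, 4, 5, 2, 3, 4, 1, 2, 3, 8, 0, 1, 2, 3, 4, 5, 6, 7]), (6529, [4, 3, 8, 2, 3,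 4, 1, 2, 3, 8, 7, 5, 6, 4, 5, 3, 4, 2, 3, 8, 1, 2, 3, 4, 5, 6, 7]), (6531, [5, 4, 3, 8, 2, 3, 4, 1, 2, 3, 8, 5, 6, 4, 5, 3, 4, 2, 3, 8, 1, 2, 3, 4, 5, 6, 7]), (1, [7]), (0, [])], 3, 6),
    ([(6212, [9, 8, 4, 5, 2, 3, 4, 0, 1, 2, 3, 8, 9, 5, 4, 1, 2, 3, 8, 0, 1, 2, 3, 4, 5, 6, 7]), (1088, [5, 3, 4, 2, 3, 8, 9, 3, 4, 1, 2, 3, 8, 0, 1, 2, 3, 4, 5, 6, 7]), (352, [9, 6, 5, 2, 3, 4, 1, 2, 3, 8, 0, 1, 2, 3, 4, 5, 6, 7]), (346, [3, 4, 5, 2, 3, 4, 1, 2, 3, 8, 0, 1, 2, 3, 4, 5, 6, 7]), (244, [9, 8, 2, 3, 4, 1, 2, 3, 8, 0, 1, 2, 3, 4, 5, 6, 7]), (726, [3, 8, 7, 6, 5, 2, 3, 4, 1, 2, 3, 8, 0, 1, 2, 3, 4, 5, 6, 7]), (1877, [6, 7, 4, 5, 6, 3, 4, 5, 2, 3, 4, 1, 2,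 3, 8, 0, 1, 2, 3, 4, 5, 6, 7]), (2, [6, 7]), (2524, [5, 6, 7, 4, 5, 6, 3, 4, 5, 2, 3, 4, 1, 2, 3, 8, 0, 1, 2, 3, 4, 5, 6, 7]), (8006, [6, 5, 4, 3, 8, 2, 3, 4, 1, 2, 3, 8, 5, 6, 4, 5, 3, 4, 2, 3, 8, 1, 2, 3, 4, 5, 6, 7]), (0, [])], 0, 3)],
  [([(3, [5, 6, 7]), (33, [5, 4, 3, 8, 1, 2, 3, 4, 5, 6, 7]), (36, [6, 5, 4, 3, 8, 2, 3, 4, 5, 6, 7]), (17, [9, 8, 1, 2, 3, 4, 5, 6, 7]), (1, [7]), (18, [4, 3, 8, 2, 3, 4, 5, 6, 7]), (57, [9, 1, 2, 3, 8, 0, 1, 2, 3, 4, 5, 6, 7]), (110, [8, 9, 7, 6, 5, 4, 3, 8, 2, 3, 4, 5, 6, 7]), (115, [2, 3, 4, 1, 2, 3, 8, 0, 1, 2, 3, 4, 5, 6, 7]), (10, [9, 8, 3, 4, 5, 6, 7]), (0, []), (736, [8, 9, 4, 3, 8, 2, 3, 4, 1, 2, 3, 8, 0,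 1, 2, 3, 4, 5, 6, 7]), (732, [8, 9, 3, 8, 5, 2, 3, 4, 1, 2, 3, 8, 0, 1, 2, 3, 4, 5, 6, 7]), (3, [5, 6, 7]), (1000, [4, 5, 6, 3, 4, 5, 2, 3, 4, 1, 2, 3, 8, 0, 1, 2, 3, 4, 5, 6, 7]), (2525, [9, 6, 7, 4, 5, 6, 3, 4, 5, 2, 3, 4, 1, 2, 3, 8, 0, 1, 2, 3, 4, 5, 6, 7]), (2524, [5, 6, 7, 4, 5, 6, 3, 4, 5, 2, 3, 4, 1, 2, 3, 8, 0, 1, 2, 3, 4, 5, 6, 7]), (8005, [5, 4, 3, 8, 2, 3, 4, 1, 2, 3, 8, 7, 5, 6, 4, 5, 3, 4, 2, 3, 8, 1, 2, 3, 4, 5, 6, 7]), (1, [7]), (8007, [8, 3, 4, 2, 3, 8, 5, 6, 4, 5, 3, 4, 2, 3, 8, 9, 7, 6, 5, 4, 3, 8, 2, 3, 4, 5, 6, 7])], 3, 7),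
    ([(16832, [3, 8, 9, 2, 3, 8, 6, 4, 5, 3, 4, 1, 2, 3, 8, 9, 6, 5, 2, 3, 4, 1, 2, 3, 8, 0, 1, 2, 3, 4, 5, 6, 7]), (7, [8, 3, 4, 5, 6, 7]), (76, [9, 7, 6, 5, 4, 3, 8, 2, 3, 4, 5, 6, 7]), (115, [2, 3, 4, 1, 2, 3, 8, 0, 1, 2, 3, 4, 5, 6, 7]), (77, [8, 9, 6, 5, 4, 3, 8, 2, 3, 4, 5, 6, 7]), (1, [7]), (7, [8, 3, 4, 5, 6, 7]), (383, [3, 4, 2, 3, 8, 9, 1, 2, 3, 8, 0, 1, 2, 3, 4, 5, 6, 7]), (514, [9, 3, 8, 5, 2, 3, 4, 1, 2, 3, 8, 0, 1, 2, 3, 4, 5, 6, 7]), (356, [4, 3, 8, 2, 3, 4, 1, 2, 3, 8, 0, 1, 2, 3, 4, 5, 6, 7]), (6531, [5, 4, 3, 8, 2, 3, 4, 1, 2, 3, 8, 5, 6, 4, 5, 3, 4, 2, 3, 8, 1, 2, 3, 4, 5, 6, 7]), (1, [7]), (8007, [8, 3, 4, 2, 3, 8, 5, 6, 4, 5, 3,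 4, 2, 3, 8, 9, 7, 6, 5, 4, 3, 8, 2, 3, 4, 5, 6, 7])], 0, 5),
    ([(29882, [6, 5, 4, 3, 8, 9, 5, 4, 2, 3, 8, 4, 5, 6, 3, 4, 5, 2, 3, 4, 1, 2, 3, 8, 9, 8, 4, 5, 2, 3, 4, 1, 2, 3, 8, 0, 1, 2, 3, 4, 5, 6, 7]), (6836, [9, 8, 4, 5, 3, 4, 2, 3, 8, 9, 7, 6, 5, 2, 3, 4, 1, 2, 3, 8, 0, 1, 2, 3, 4, 5, 6, 7]), (4, [4, 5, 6, 7]), (7, [8, 3, 4, 5, 6, 7]), (355, [8, 9, 5, 2, 3, 4, 1, 2, 3, 8, 0, 1, 2, 3, 4, 5, 6, 7]), (4, [4, 5, 6, 7]), (714, [7, 6, 3, 4, 5, 2, 3, 4, 1, 2, 3, 8, 0, 1, 2, 3, 4, 5, 6, 7]), (1378, [7, 4, 5, 6, 3, 4, 5, 2, 3, 4, 1, 2, 3, 8, 0, 1, 2, 3, 4, 5, 6, 7]), (2525, [9, 6, 7, 4, 5, 6, 3, 4, 5, 2, 3, 4, 1, 2, 3, 8, 0, 1, 2, 3, 4, 5, 6, 7]), (3321,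 [9, 5, 6, 7, 4, 5, 6, 3, 4, 5, 2, 3, 4, 1, 2, 3, 8, 0, 1, 2, 3, 4, 5, 6, 7]), (6531, [5, 4, 3, 8, 2, 3, 4, 1, 2, 3, 8, 5, 6, 4, 5, 3, 4, 2, 3, 8, 1, 2, 3, 4, 5, 6, 7]), (8007, [8, 3, 4, 2, 3, 8, 5, 6, 4, 5, 3, 4, 2, 3, 8, 9, 7, 6, 5, 4, 3, 8, 2, 3, 4, 5, 6, 7])], 2, 3),
    ([(2, [6, 7]), (0, []), (32, [9, 2, 3, 8, 1, 2, 3, 4, 5, 6, 7]), (37, [9, 5, 4, 3, 8, 2, 3, 4, 5, 6, 7]), (31, [4, 2, 3, 8, 1, 2, 3, 4, 5, 6, 7]), (37, [9, 5, 4, 3, 8, 2, 3, 4, 5, 6, 7]), (113, [4, 3, 8, 9, 5, 4, 3, 8, 2, 3, 4, 5, 6, 7]), (39, [1, 2, 3, 8, 0, 1, 2, 3, 4, 5, 6, 7]), (110, [8, 9, 7, 6, 5, 4, 3, 8, 2, 3, 4, 5, 6, 7]), (512, [9, 8, 6, 5, 2, 3, 4, 1, 2, 3, 8, 0, 1, 2,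 3, 4, 5, 6, 7]), (346, [3, 4, 5, 2, 3, 4, 1, 2, 3, 8, 0, 1, 2, 3, 4, 5, 6, 7]), (1381, [9, 7, 5, 6, 3, 4, 5, 2, 3, 4, 1, 2, 3, 8, 0, 1, 2, 3, 4, 5, 6, 7]), (1000, [4, 5, 6, 3, 4, 5, 2, 3, 4, 1, 2, 3, 8, 0, 1, 2, 3, 4, 5, 6, 7]), (8002, [4, 3, 8, 2, 3, 4, 1, 2, 3, 8, 6, 7, 5, 6, 4, 5, 3, 4, 2, 3, 8, 1, 2, 3, 4, 5, 6, 7]), (3321, [9, 5, 6, 7, 4, 5, 6, 3, 4, 5, 2, 3, 4, 1, 2, 3, 8, 0, 1, 2, 3, 4, 5, 6, 7]), (8005, [5, 4, 3, 8, 2, 3, 4, 1, 2, 3, 8, 7, 5, 6, 4, 5, 3, 4, 2, 3, 8, 1, 2, 3, 4, 5, 6, 7])], 2, 6),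
    ([(2, [6, 7]), (13, [3, 8, 2, 3, 4, 5, 6, 7]), (33, [5, 4, 3, 8, 1, 2, 3, 4, 5, 6, 7]), (34, [9, 4, 3, 8, 1, 2, 3, 4, 5, 6, 7]), (78, [3, 8, 9, 5, 4, 3, 8, 2, 3, 4, 5, 6, 7]), (115, [2, 3, 4, 1, 2, 3, 8, 0, 1, 2, 3, 4, 5, 6, 7]), (0, []), (83, [8, 9, 1, 2, 3, 8, 0, 1, 2, 3, 4, 5, 6, 7]), (178, [2, 3, 8, 9, 1, 2, 3, 8, 0, 1, 2, 3, 4, 5, 6, 7]), (501, [6, 3, 4, 5, 2, 3, 4, 1, 2, 3, 8, 0, 1, 2, 3, 4, 5, 6, 7]), (358, [8, 9, 8, 2, 3, 4, 1, 2, 3, 8, 0, 1, 2, 3, 4, 5, 6, 7]), (2, [6, 7]), (4, [4, 5, 6, 7]), (518, [8, 9, 3, 8, 2, 3, 4, 1, 2, 3, 8, 0, 1, 2, 3, 4, 5, 6, 7]), (3, [5, 6, 7]), (1877, [6, 7, 4, 5, 6, 3, 4, 5, 2, 3, 4, 1, 2, 3, 8, 0, 1, 2, 3,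 4, 5, 6, 7]), (2, [6, 7]), (8006, [6, 5, 4, 3, 8, 2, 3, 4, 1, 2, 3, 8, 5, 6, 4, 5, 3, 4, 2, 3, 8, 1, 2, 3, 4, 5, 6, 7]), (0, [])], 0, 7),
    ([(17969, [8, 3, 4, 2, 3, 8, 5, 6, 3, 4, 5, 2, 3, 4, 1, 2, 3, 8, 9, 3, 4, 1, 2, 3, 8, 0, 1, 2, 3, 4, 5, 6, 7]), (7, [8, 3, 4, 5, 6, 7]), (76, [9, 7, 6, 5, 4, 3, 8, 2, 3, 4, 5, 6, 7]), (115, [2, 3, 4, 1, 2, 3, 8, 0, 1, 2, 3, 4, 5, 6, 7]), (77, [8, 9, 6, 5, 4, 3, 8, 2, 3, 4, 5, 6, 7]), (4, [4, 5, 6, 7]), (178, [2, 3, 8, 9, 1, 2, 3, 8, 0, 1, 2, 3, 4, 5, 6, 7]), (347, [6, 4, 5, 2, 3, 4, 1, 2, 3, 8, 0, 1, 2, 3, 4, 5, 6, 7]), (243, [3, 8, 2, 3, 4, 1, 2, 3, 8, 0, 1, 2, 3, 4, 5, 6, 7]), (346, [3, 4, 5, 2, 3, 4, 1, 2,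 3, 8, 0, 1, 2, 3, 4, 5, 6, 7]), (1000, [4, 5, 6, 3, 4, 5, 2, 3, 4, 1, 2, 3, 8, 0, 1, 2, 3, 4, 5, 6, 7]), (8002, [4, 3, 8, 2, 3, 4, 1, 2, 3, 8, 6, 7, 5, 6, 4, 5, 3, 4, 2, 3, 8, 1, 2, 3, 4, 5, 6, 7]), (2, [6, 7]), (3321, [9, 5, 6, 7, 4, 5, 6, 3, 4, 5, 2, 3, 4, 1, 2, 3, 8, 0, 1, 2, 3, 4, 5, 6, 7]), (8006, [6, 5, 4, 3, 8, 2, 3, 4, 1, 2, 3, 8, 5, 6, 4, 5, 3, 4, 2, 3, 8, 1, 2, 3, 4, 5, 6, 7]), (8007, [8, 3, 4, 2, 3, 8, 5, 6, 4, 5, 3, 4, 2, 3, 8, 9, 7, 6, 5, 4, 3, 8, 2, 3, 4, 5, 6, 7])], 1, 5),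
    ([(10774, [9, 8, 5, 6, 4, 5, 3, 4, 1, 2, 3, 8, 9, 8, 4, 5, 3, 4, 1, 2, 3, 8, 0, 1, 2, 3, 4, 5, 6, 7]), (9723, [9, 8, 6, 5, 3, 4, 2, 3, 8, 9, 7, 6, 3, 4, 5, 2, 3, 4, 1, 2, 3, 8, 0, 1, 2, 3, 4, 5, 6, 7]), (245, [8, 9, 2, 3, 4, 1, 2, 3, 8, 0, 1, 2, 3, 4, 5, 6, 7]), (353, [3, 8, 5, 2, 3, 4, 1, 2, 3, 8, 0, 1, 2, 3, 4, 5, 6, 7]), (352, [9, 6, 5, 2, 3, 4, 1, 2, 3, 8, 0, 1, 2, 3, 4, 5, 6, 7]), (713, [5, 6, 3, 4, 5, 2, 3, 4, 1, 2, 3, 8, 0, 1, 2, 3, 4, 5, 6, 7]), (1003, [9, 7, 6, 3, 4, 5, 2, 3, 4, 1, 2, 3, 8, 0, 1, 2, 3, 4, 5, 6, 7]), (3, [5, 6, 7]), (1000, [4, 5, 6, 3, 4, 5, 2, 3, 4, 1, 2, 3, 8, 0, 1, 2, 3, 4, 5, 6, 7]), (2525, [9, 6, 7, 4, 5, 6, 3, 4, 5,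 2, 3, 4, 1, 2, 3, 8, 0, 1, 2, 3, 4, 5, 6, 7]), (2524, [5, 6, 7, 4, 5, 6, 3, 4, 5, 2, 3, 4, 1, 2, 3, 8, 0, 1, 2, 3, 4, 5, 6, 7]), (8005, [5, 4, 3, 8, 2, 3, 4, 1, 2, 3, 8, 7, 5, 6, 4, 5, 3, 4, 2, 3, 8, 1, 2, 3, 4, 5, 6, 7]), (1, [7])], 4, 7)],
  [([(303, [8, 9, 8, 4, 5, 3, 4, 2, 3, 8, 1, 2, 3, 4, 5, 6, 7]), (26, [9, 4, 3, 8, 2, 3, 4, 5, 6, 7]), (56, [4, 1, 2, 3, 8, 0, 1, 2, 3, 4, 5, 6, 7]), (0, []), (57, [9, 1, 2, 3, 8, 0, 1, 2, 3, 4, 5, 6, 7]), (351, [8, 6, 5, 2, 3, 4, 1, 2, 3, 8, 0, 1, 2, 3, 4, 5, 6, 7]), (359, [3, 8, 9, 2, 3, 4, 1, 2, 3, 8, 0, 1, 2, 3, 4, 5, 6, 7]), (383, [3, 4, 2, 3, 8, 9, 1, 2, 3, 8, 0, 1, 2, 3, 4, 5, 6, 7]), (1004, [8, 9, 6, 3,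 4, 5, 2, 3, 4, 1, 2, 3, 8, 0, 1, 2, 3, 4, 5, 6, 7]), (356, [4, 3, 8, 2, 3, 4, 1, 2, 3, 8, 0, 1, 2, 3, 4, 5, 6, 7]), (2, [6, 7]), (2524, [5, 6, 7, 4, 5, 6, 3, 4, 5, 2, 3, 4, 1, 2, 3, 8, 0, 1, 2, 3, 4, 5, 6, 7]), (1, [7]), (8007, [8, 3, 4, 2, 3, 8, 5, 6, 4, 5, 3, 4, 2, 3, 8, 9, 7, 6, 5, 4, 3, 8, 2, 3, 4, 5, 6, 7])], 2, 3),
    ([(5, [3, 4, 5, 6, 7]), (33, [5, 4, 3, 8, 1, 2, 3, 4, 5, 6, 7]), (34, [9, 4, 3, 8, 1, 2, 3, 4, 5, 6, 7]), (1, [7]), (54, [8, 9, 5, 4, 3, 8, 2, 3, 4, 5, 6, 7]), (82, [9, 4, 1, 2, 3, 8, 0, 1, 2, 3, 4, 5, 6, 7]), (110, [8, 9, 7, 6, 5, 4, 3, 8, 2, 3, 4, 5, 6, 7]), (178, [2, 3, 8, 9, 1, 2, 3, 8, 0, 1, 2, 3, 4, 5, 6, 7]), (354, [9, 8,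 5, 2, 3, 4, 1, 2, 3, 8, 0, 1, 2, 3, 4, 5, 6, 7]), (353, [3, 8, 5, 2, 3, 4, 1, 2, 3, 8, 0, 1, 2, 3, 4, 5, 6, 7]), (1003, [9, 7, 6, 3, 4, 5, 2, 3, 4, 1, 2, 3, 8, 0, 1, 2, 3, 4, 5, 6, 7]), (6529, [4, 3, 8, 2, 3, 4, 1, 2, 3, 8, 7, 5, 6, 4, 5, 3, 4, 2, 3, 8, 1, 2, 3, 4, 5, 6, 7]), (2524, [5, 6, 7, 4, 5, 6, 3, 4, 5, 2, 3, 4, 1, 2, 3, 8, 0, 1, 2, 3, 4, 5, 6, 7]), (8005, [5, 4, 3, 8, 2, 3, 4, 1, 2, 3, 8, 7, 5, 6, 4, 5, 3, 4, 2, 3, 8, 1, 2, 3, 4, 5, 6, 7]), (0, []), (8007, [8, 3, 4, 2, 3, 8, 5, 6, 4, 5, 3, 4, 2, 3, 8, 9, 7, 6, 5, 4, 3, 8, 2, 3, 4, 5, 6, 7])], 0, 6),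
    ([(17291, [9, 8, 4, 5, 6, 3, 4, 5, 2, 3, 4, 1, 2, 3, 8, 9, 8, 4, 5, 3, 4, 1, 2, 3, 8, 0, 1, 2, 3, 4, 5, 6, 7]), (0, []), (26, [9, 4, 3, 8, 2, 3, 4, 5, 6, 7]), (80, [3, 4, 1, 2, 3, 8, 0, 1, 2, 3, 4, 5, 6, 7]), (112, [2, 3, 8, 9, 5, 4, 3, 8, 2, 3, 4, 5, 6, 7]), (0, []), (165, [5, 2, 3, 4, 1, 2, 3, 8, 0, 1, 2, 3, 4, 5, 6, 7]), (244, [9, 8, 2, 3, 4, 1, 2, 3, 8, 0, 1, 2, 3, 4, 5, 6, 7]), (2, [6, 7]), (357, [9, 3, 8, 2, 3, 4, 1, 2, 3, 8, 0, 1, 2, 3, 4, 5, 6, 7]), (518, [8, 9, 3, 8, 2, 3, 4, 1, 2, 3, 8, 0, 1, 2, 3, 4, 5, 6, 7]), (3, [5, 6, 7]), (1000, [4, 5, 6, 3, 4, 5, 2, 3, 4, 1, 2, 3, 8, 0, 1, 2, 3, 4, 5, 6, 7]), (1878, [9, 7, 4, 5, 6, 3, 4, 5, 2, 3,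 4, 1, 2, 3, 8, 0, 1, 2, 3, 4, 5, 6, 7]), (2, [6, 7]), (2524, [5, 6, 7, 4, 5, 6, 3, 4, 5, 2, 3, 4, 1, 2, 3, 8, 0, 1, 2, 3, 4, 5, 6, 7]), (8006, [6, 5, 4, 3, 8, 2, 3, 4, 1, 2, 3, 8, 5, 6, 4, 5, 3, 4, 2, 3, 8, 1, 2, 3, 4, 5, 6, 7])], 0, 5),
    ([(9232, [9, 8, 5, 6, 4, 5, 3, 4, 0, 1, 2, 3, 8, 9, 5, 3, 4, 1, 2, 3, 8, 0, 1, 2, 3, 4, 5, 6, 7]), (2, [6, 7]), (37, [9, 5, 4, 3, 8, 2, 3, 4, 5, 6, 7]), (82, [9, 4, 1, 2, 3, 8, 0, 1, 2, 3, 4, 5, 6, 7]), (110, [8, 9, 7, 6, 5, 4, 3, 8, 2, 3, 4, 5, 6, 7]), (5, [3, 4, 5, 6, 7]), (2, [6, 7]), (245, [8, 9, 2, 3, 4, 1, 2, 3, 8, 0, 1, 2, 3, 4, 5, 6, 7]), (4, [4, 5, 6, 7]), (1021, [8, 9, 3, 8, 6, 5, 2, 3, 4, 1, 2, 3, 8,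 0, 1, 2, 3, 4, 5, 6, 7]), (356, [4, 3, 8, 2, 3, 4, 1, 2, 3, 8, 0, 1, 2, 3, 4, 5, 6, 7]), (2525, [9, 6, 7, 4, 5, 6, 3, 4, 5, 2, 3, 4, 1, 2, 3, 8, 0, 1, 2, 3, 4, 5, 6, 7]), (2, [6, 7]), (8006, [6, 5, 4, 3, 8, 2, 3, 4, 1, 2, 3, 8, 5, 6, 4, 5, 3, 4, 2, 3, 8, 1, 2, 3, 4, 5, 6, 7]), (0, []), (8007, [8, 3, 4, 2, 3, 8, 5, 6, 4, 5, 3, 4, 2, 3, 8, 9, 7, 6, 5, 4, 3, 8, 2, 3, 4, 5, 6, 7])], 3, 6),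
    ([(13531, [9, 8, 7, 5, 6, 3, 4, 5, 2, 3, 4, 0, 1, 2, 3, 8, 9, 3, 4, 1, 2, 3, 8, 0, 1, 2, 3, 4, 5, 6, 7]), (0, []), (13, [3, 8, 2, 3, 4, 5, 6, 7]), (115, [2, 3, 4, 1, 2, 3, 8, 0, 1, 2, 3, 4, 5, 6, 7]), (37, [9, 5, 4, 3, 8, 2, 3, 4, 5, 6, 7]), (1, [7]), (7, [8, 3, 4, 5, 6, 7]), (354, [9, 8, 5, 2, 3, 4, 1, 2, 3, 8, 0, 1, 2, 3, 4, 5, 6, 7]), (715, [9, 6, 3, 4, 5, 2, 3, 4, 1, 2, 3, 8, 0, 1, 2, 3, 4, 5, 6, 7]), (1381, [9, 7, 5, 6, 3, 4, 5, 2, 3, 4, 1, 2, 3, 8, 0, 1, 2, 3, 4, 5, 6, 7]), (3, [5, 6, 7]), (3321, [9, 5, 6, 7, 4, 5, 6, 3, 4, 5, 2, 3, 4, 1, 2, 3, 8, 0, 1, 2, 3, 4, 5, 6, 7]), (1, [7]), (8007, [8, 3, 4, 2, 3, 8, 5, 6, 4, 5, 3, 4, 2, 3, 8, 9, 7,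 6, 5, 4, 3, 8, 2, 3, 4, 5, 6, 7])], 1, 4),
    ([(5, [3, 4, 5, 6, 7]), (19, [9, 3, 8, 2, 3, 4, 5, 6, 7]), (33, [5, 4, 3, 8, 1, 2, 3, 4, 5, 6, 7]), (34, [9, 4, 3, 8, 1, 2, 3, 4, 5, 6, 7]), (7, [8, 3, 4, 5, 6, 7]), (9, [8, 2, 3, 4, 5, 6, 7]), (55, [3, 8, 9, 4, 3, 8, 2, 3, 4, 5, 6, 7]), (1, [7]), (348, [8, 4, 5, 2, 3, 4, 1, 2, 3, 8, 0, 1, 2, 3, 4, 5, 6, 7]), (354, [9, 8, 5, 2, 3, 4, 1, 2, 3, 8, 0, 1, 2, 3, 4, 5, 6, 7]), (713, [5, 6, 3, 4, 5, 2, 3, 4, 1, 2, 3, 8, 0, 1, 2, 3, 4, 5, 6, 7]), (729, [9, 3, 8, 6, 5, 2, 3, 4, 1, 2, 3, 8, 0, 1, 2, 3, 4, 5, 6, 7]), (1379, [9, 4, 5, 6, 3, 4, 5, 2, 3, 4, 1, 2, 3, 8, 0, 1, 2, 3, 4, 5, 6, 7]), (2, [6, 7]), (2524, [5,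 6, 7, 4, 5, 6, 3, 4, 5, 2, 3, 4, 1, 2, 3, 8, 0, 1, 2, 3, 4, 5, 6, 7]), (1, [7])], 4, 5)],
  [([(7708, [9, 8, 3, 4, 5, 2, 3, 4, 1, 2, 3, 8, 9, 6, 5, 4, 1, 2, 3, 8, 0, 1, 2, 3, 4, 5, 6, 7]), (8153, [9, 8, 4, 5, 3, 4, 2, 3, 8, 9, 8, 6, 4, 5, 2, 3, 4, 1, 2, 3, 8, 0, 1, 2, 3, 4, 5, 6, 7]), (245, [8, 9, 2, 3, 4, 1, 2, 3, 8, 0, 1, 2, 3, 4, 5, 6, 7]), (384, [5, 4, 2, 3, 8, 9, 1, 2, 3, 8, 0, 1, 2, 3, 4, 5, 6, 7]), (4, [4, 5, 6, 7]), (1001, [7, 5, 6, 3, 4, 5, 2, 3, 4, 1, 2, 3, 8, 0, 1, 2, 3, 4, 5, 6, 7]), (5268, [4, 3, 8, 2, 3, 4, 1, 2, 3, 8, 5, 6, 4, 5, 3, 4, 2, 3, 8, 1, 2, 3, 4, 5, 6, 7]), (2, [6, 7]), (3321, [9, 5, 6, 7, 4, 5, 6, 3, 4, 5, 2, 3, 4, 1, 2, 3,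 8, 0, 1, 2, 3, 4, 5, 6, 7]), (8006, [6, 5, 4, 3, 8, 2, 3, 4, 1, 2, 3, 8, 5, 6, 4, 5, 3, 4, 2, 3, 8, 1, 2, 3, 4, 5, 6, 7]), (8007, [8, 3, 4, 2, 3, 8, 5, 6, 4, 5, 3, 4, 2, 3, 8, 9, 7, 6, 5, 4, 3, 8, 2, 3, 4, 5, 6, 7])], 2, 3),
    ([(5581, [9, 8, 5, 3, 4, 1, 2, 3, 8, 9, 8, 5, 2, 3, 4, 1, 2, 3, 8, 0, 1, 2, 3, 4, 5, 6, 7]), (11589, [1, 2, 3, 8, 4, 5, 3, 4, 2, 3, 8, 6, 7, 5, 6, 4, 5, 3, 4, 2, 3, 8, 0, 1, 2, 3, 4, 5, 6, 7]), (240, [6, 5, 2, 3, 4, 1, 2, 3, 8, 0, 1, 2, 3, 4, 5, 6, 7]), (354, [9, 8, 5, 2, 3, 4, 1, 2, 3, 8, 0, 1, 2, 3, 4, 5, 6, 7]), (115, [2, 3, 4, 1, 2, 3, 8, 0, 1, 2, 3, 4, 5, 6, 7]), (1403, [8, 9, 3, 8, 7, 6, 5, 2, 3, 4, 1, 2, 3, 8, 0, 1, 2,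 3, 4, 5, 6, 7]), (726, [3, 8, 7, 6, 5, 2, 3, 4, 1, 2, 3, 8, 0, 1, 2, 3, 4, 5, 6, 7]), (8002, [4, 3, 8, 2, 3, 4, 1, 2, 3, 8, 6, 7, 5, 6, 4, 5, 3, 4, 2, 3, 8, 1, 2, 3, 4, 5, 6, 7]), (2, [6, 7]), (2524, [5, 6, 7, 4, 5, 6, 3, 4, 5, 2, 3, 4, 1, 2, 3, 8, 0, 1, 2, 3, 4, 5, 6, 7]), (8006, [6, 5, 4, 3, 8, 2, 3, 4, 1, 2, 3, 8, 5, 6, 4, 5, 3, 4, 2, 3, 8, 1, 2, 3, 4, 5, 6, 7]), (0, []), (8007, [8, 3, 4, 2, 3, 8, 5, 6, 4, 5, 3, 4, 2, 3, 8, 9, 7, 6, 5, 4, 3, 8, 2, 3, 4, 5, 6, 7])], 1, 4),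
    ([(12, [8, 1, 2, 3, 4, 5, 6, 7]), (25, [5, 4, 3, 8, 2, 3, 4, 5, 6, 7]), (21, [9, 8, 0, 1, 2, 3, 4, 5, 6, 7]), (56, [4, 1, 2, 3, 8, 0, 1, 2, 3, 4, 5, 6, 7]), (1, [7]), (112, [2, 3, 8, 9, 5, 4, 3, 8, 2, 3, 4, 5, 6, 7]), (19, [9, 3, 8, 2, 3, 4, 5, 6, 7]), (2, [6, 7]), (165, [5, 2, 3, 4, 1, 2, 3, 8, 0, 1, 2, 3, 4, 5, 6, 7]), (244, [9, 8, 2, 3, 4, 1, 2, 3, 8, 0, 1, 2, 3, 4, 5, 6, 7]), (353, [3, 8, 5, 2, 3, 4, 1, 2, 3, 8, 0, 1, 2, 3, 4, 5, 6, 7]), (1383, [8, 9, 7, 6, 3, 4, 5, 2, 3, 4, 1, 2, 3, 8, 0, 1, 2, 3, 4, 5, 6, 7]), (1000, [4, 5, 6, 3, 4, 5, 2, 3, 4, 1, 2, 3, 8, 0, 1, 2, 3, 4, 5, 6, 7]), (1878, [9, 7, 4, 5, 6, 3, 4, 5, 2, 3, 4, 1, 2, 3, 8, 0, 1,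 2, 3, 4, 5, 6, 7]), (2, [6, 7]), (2524, [5, 6, 7, 4, 5, 6, 3, 4, 5, 2, 3, 4, 1, 2, 3, 8, 0, 1, 2, 3, 4, 5, 6, 7])], 2, 4),
    ([(3377, [5, 4, 1, 2, 3, 8, 9, 6, 4, 5, 2, 3, 4, 1, 2, 3, 8, 0, 1, 2, 3, 4, 5, 6, 7]), (111, [3, 8, 9, 6, 5, 4, 3, 8, 2, 3, 4, 5, 6, 7]), (115, [2, 3, 4, 1, 2, 3, 8, 0, 1, 2, 3, 4, 5, 6, 7]), (83, [8, 9, 1, 2, 3, 8, 0, 1, 2, 3, 4, 5, 6, 7]), (4, [4, 5, 6, 7]), (347, [6, 4, 5, 2, 3, 4, 1, 2, 3, 8, 0, 1, 2, 3, 4, 5, 6, 7]), (384, [5, 4, 2, 3, 8, 9, 1, 2, 3, 8, 0, 1, 2, 3, 4, 5, 6, 7]), (359, [3, 8, 9, 2, 3, 4, 1, 2, 3, 8, 0, 1, 2, 3, 4, 5, 6, 7]), (502, [9, 3, 4, 5, 2, 3, 4, 1, 2, 3, 8, 0, 1, 2, 3, 4, 5, 6, 7]), (1403, [8, 9,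 3, 8, 7, 6, 5, 2, 3, 4, 1, 2, 3, 8, 0, 1, 2, 3, 4, 5, 6, 7]), (1000, [4, 5, 6, 3, 4, 5, 2, 3, 4, 1, 2, 3, 8, 0, 1, 2, 3, 4, 5, 6, 7]), (8002, [4, 3, 8, 2, 3, 4, 1, 2, 3, 8, 6, 7, 5, 6, 4, 5, 3, 4, 2, 3, 8, 1, 2, 3, 4, 5, 6, 7]), (2, [6, 7]), (3321, [9, 5, 6, 7, 4, 5, 6, 3, 4, 5, 2, 3, 4, 1, 2, 3, 8, 0, 1, 2, 3, 4, 5, 6, 7]), (0, [])], 0, 5)],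
  [([(2, [6, 7]), (35, [8, 9, 3, 8, 1, 2, 3, 4, 5, 6, 7]), (38, [8, 9, 4, 3, 8, 2, 3, 4, 5, 6, 7]), (32, [9, 2, 3, 8, 1, 2, 3, 4, 5, 6, 7]), (37, [9, 5, 4, 3, 8, 2, 3, 4, 5, 6, 7]), (556, [5, 3, 4, 2, 3, 8, 9, 1, 2, 3, 8, 0, 1, 2, 3, 4, 5, 6, 7]), (4, [4, 5, 6, 7]), (1380, [6, 7, 5, 6, 3, 4, 5, 2, 3, 4, 1, 2, 3, 8, 0, 1, 2, 3, 4, 5, 6, 7]), (3, [5, 6, 7]), (1877, [6, 7, 4, 5, 6, 3, 4, 5, 2, 3, 4, 1, 2, 3, 8, 0, 1, 2, 3, 4, 5, 6, 7]), (2, [6, 7]), (3321, [9, 5, 6, 7, 4, 5, 6, 3, 4, 5, 2, 3, 4, 1, 2, 3, 8, 0, 1, 2, 3, 4, 5, 6, 7])], 2, 3),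
    ([(4880, [9, 8, 4, 5, 3, 4, 1, 2, 3, 8, 9, 6, 5, 4, 1, 2, 3, 8, 0, 1, 2, 3, 4, 5, 6, 7]), (2, [6, 7]), (14, [9, 8, 2, 3, 4, 5, 6, 7]), (113, [4, 3, 8, 9, 5, 4, 3, 8, 2, 3, 4, 5, 6, 7]), (0, []), (115, [2, 3, 4, 1, 2, 3, 8, 0, 1, 2, 3, 4, 5, 6, 7]), (242, [9, 5, 2, 3, 4, 1, 2, 3, 8, 0, 1, 2, 3, 4, 5, 6, 7]), (261, [4, 2, 3, 8, 9, 1, 2, 3, 8, 0, 1, 2, 3, 4, 5, 6, 7]), (501, [6, 3, 4, 5, 2, 3, 4, 1, 2, 3, 8, 0, 1, 2, 3, 4, 5, 6, 7]), (1018, [9, 3, 8, 7, 6, 5, 2, 3, 4, 1, 2, 3, 8, 0, 1, 2, 3, 4, 5, 6, 7]), (1000, [4, 5, 6, 3, 4, 5, 2, 3, 4, 1, 2, 3, 8, 0, 1, 2, 3, 4, 5, 6, 7]), (1878, [9, 7, 4, 5, 6, 3, 4, 5, 2, 3, 4, 1, 2, 3, 8, 0, 1, 2, 3, 4, 5, 6,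 7]), (8002, [4, 3, 8, 2, 3, 4, 1, 2, 3, 8, 6, 7, 5, 6, 4, 5, 3, 4, 2, 3, 8, 1, 2, 3, 4, 5, 6, 7]), (0, [])], 0, 1),
    ([(17293, [9, 8, 7, 5, 6, 3, 4, 5, 2, 3, 4, 1, 2, 3, 8, 9, 8, 4, 5, 3, 4, 1, 2, 3, 8, 0, 1, 2, 3, 4, 5, 6, 7]), (7322, [9, 8, 5, 6, 4, 5, 3, 4, 2, 3, 8, 9, 4, 5, 3, 4, 1, 2, 3, 8, 0, 1, 2, 3, 4, 5, 6, 7]), (353, [3, 8, 5, 2, 3, 4, 1, 2, 3, 8, 0, 1, 2, 3, 4, 5, 6, 7]), (5268, [4, 3, 8, 2, 3, 4, 1, 2, 3, 8, 5, 6, 4, 5, 3, 4, 2, 3, 8, 1, 2, 3, 4, 5, 6, 7])], 0, 2)],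
  [([(4880, [9, 8, 4, 5, 3, 4, 1, 2, 3, 8, 9, 6, 5, 4, 1, 2, 3, 8, 0, 1, 2, 3, 4, 5, 6, 7]), (2, [6, 7]), (14, [9, 8, 2, 3, 4, 5, 6, 7]), (113, [4, 3, 8, 9, 5, 4, 3, 8, 2, 3, 4, 5, 6, 7]), (0, []), (115, [2, 3, 4, 1, 2, 3, 8, 0, 1, 2, 3, 4, 5, 6, 7]), (242, [9, 5, 2, 3, 4, 1, 2, 3, 8, 0, 1, 2, 3, 4, 5, 6, 7]), (261, [4, 2, 3, 8, 9, 1, 2, 3, 8, 0, 1, 2, 3, 4, 5, 6, 7]), (501, [6, 3, 4, 5, 2, 3, 4, 1, 2, 3, 8, 0, 1, 2, 3, 4, 5, 6, 7]), (1018, [9, 3, 8, 7, 6, 5, 2, 3, 4, 1, 2, 3, 8, 0, 1, 2, 3, 4, 5, 6, 7]), (1000, [4, 5, 6, 3, 4, 5, 2, 3, 4, 1, 2, 3, 8, 0, 1, 2, 3, 4, 5, 6, 7]), (1878, [9, 7, 4, 5, 6, 3, 4, 5, 2, 3, 4, 1, 2, 3, 8, 0, 1, 2, 3, 4, 5, 6,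 7]), (8002, [4, 3, 8, 2, 3, 4, 1, 2, 3, 8, 6, 7, 5, 6, 4, 5, 3, 4, 2, 3, 8, 1, 2, 3, 4, 5, 6, 7]), (0, [])], 0, 1),
    ([(17293, [9, 8, 7, 5, 6, 3, 4, 5, 2, 3, 4, 1, 2, 3, 8, 9, 8, 4, 5, 3, 4, 1, 2, 3, 8, 0, 1, 2, 3, 4, 5, 6, 7]), (7322, [9, 8, 5, 6, 4, 5, 3, 4, 2, 3, 8, 9, 4, 5, 3, 4, 1, 2, 3, 8, 0, 1, 2, 3, 4, 5, 6, 7]), (353, [3, 8, 5, 2, 3, 4, 1, 2, 3, 8, 0, 1, 2, 3, 4, 5, 6, 7]), (5268, [4, 3, 8, 2, 3, 4, 1, 2, 3, 8, 5, 6, 4, 5, 3, 4, 2, 3, 8, 1, 2, 3, 4, 5, 6, 7])], 0, 2)],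
  [([(8709, [5, 2, 3, 4, 1, 2, 3, 8, 9, 8, 7, 5, 6, 4, 5, 3, 4, 1, 2, 3, 8, 0, 1, 2, 3, 4, 5, 6, 7]), (2552, [2, 3, 8, 9, 8, 7, 6, 4, 5, 2, 3, 4, 1, 2, 3, 8, 0, 1, 2, 3, 4, 5, 6, 7]), (5358, [6, 5, 4, 3, 8, 9, 8, 7, 5, 6, 4, 5, 2, 3, 4, 1, 2, 3, 8, 0, 1, 2, 3, 4, 5, 6, 7]), (1383, [8, 9, 7, 6, 3, 4, 5, 2, 3, 4, 1, 2, 3, 8, 0, 1, 2, 3, 4, 5, 6, 7]), (1003, [9, 7, 6, 3, 4, 5, 2, 3, 4, 1, 2, 3, 8, 0, 1, 2, 3, 4, 5, 6, 7]), (1378, [7, 4, 5, 6, 3, 4, 5, 2, 3, 4, 1, 2, 3, 8, 0, 1, 2, 3, 4, 5, 6, 7]), (2525, [9, 6, 7, 4, 5, 6, 3, 4, 5, 2, 3, 4, 1, 2, 3, 8, 0, 1, 2, 3, 4, 5, 6, 7])], 0, 1)]]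

end CfsgLib.CosetEnum.Fi23Three.Maximal
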