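/-
Checks: every transposition outside the centraliser of the central element leads to all the generators of Fi23.
-/
import Cfsg.Agent.Lib.CosetEnum.Fi23Three.Central
import Cfsg.Agent.Lib.CosetEnum.Fi23Three.MaximalData

set_option autoImplicit false
set_option maxRecDepth 1000000

namespace CfsgLib.CosetEnum.Fi23Three.Maximal

open CfsgLib.CosetEnum CfsgLib.CosetEnum.Fi23Three

/-- The word of a generator of the Sylow subgroup, reversed. -/
noncomputable def valR : List ℕ := (gensW.getD (nat_lit 1) []).reverse

/-- The image of a point under a product of transpositions. -/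
noncomputable def fev (l : List (ℕ × List ℕ)) (x : ℕ) : ℕ :=
  List.rec (motive := fun _ => ℕ) x (fun e _ v => force v (Central.tev e.2)) l

/-- The image of a point under a move. -/
noncomputable def mev (k x : ℕ) : ℕ :=
  Bool.rec
    (Bool.rec (fev fuse x) (runT Fi31671.table (nat_lit 10) valR x) (Nat.beq k (nat_lit 7)))
    (Central.tev (moveW.getD k []) x) (Nat.blt k (nat_lit 7))

/-- A transposition with its word. -/
noncomputable def okPair (e : ℕ × List ℕ) : Bool :=
  Nat.blt e.1 (nat_lit 31671) && e.2.all (fun x => Nat.blt x (nat_lit 10)) &&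
    Nat.beq (runT Fi31671.table (nat_lit 10) e.2 e.1) (nat_lit 0)

/-- The image of a point under the central element. -/
noncomputable def x0ev (x : ℕ) : ℕ :=
  runT Fi31671.table (nat_lit 10) Central.gW.reverse
    (runT Fi31671.table (nat_lit 10) (rootR (nat_lit 1)) (runT Fi31671.table (nat_lit 10) Central.gW x))

/-- The check of the moves. -/
noncomputable def okMoves : Bool :=
  allN (nat_lit 7) (fun k => force (moveIdx.getD k (nat_lit 0)) fun i =>
    Nat.blt i (nat_lit 324) && okPair (Central.fpt i, moveW.getD k [])) &&
  fuse.all okPair && roots.all okPair && genPt.all okPair && valR.all (fun x => Nat.blt x (nat_lit 10)) &&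
  base8.all fun b => Nat.beq (fev fuse (x0ev b)) (x0ev (fev fuse b))

/-- The generators are the transpositions of the listed points. -/
noncomputable def okGens : Bool :=
  allN (nat_lit 10) fun x => base8.all fun b =>
    Nat.beq (Central.tev (genPt.getD x (nat_lit 0, [])).2 b) (runT Fi31671.table (nat_lit 10) [x] b)

/-- The end of a route. -/
noncomputable def rev (r : List ℕ) (ks : List ℕ) (s : ℕ) : ℕ :=
  List.rec (motive := fun _ => ℕ → ℕ) (fun d => d)
    (fun k _ ih d => force (Bool.rec (mev k d) (Central.tev r d) (Nat.beq k (nat_lit 9))) ih) ks s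

/-- The check of one route. -/
noncomputable def okRoute (j x : ℕ) : Bool :=
  force ((routes.getD j []).getD x (nat_lit 0, [])).1 fun s =>
    Nat.blt s (nat_lit 325) && ((routes.getD j []).getD x (nat_lit 0, [])).2.all (fun k => Nat.blt k (nat_lit 10)) &&
    Nat.beq (rev (roots.getD j (nat_lit 0, [])).2 ((routes.getD j []).getD x (nat_lit 0, [])).2
      (Bool.rec (Central.fpt (Nat.pred s)) (roots.getD j (nat_lit 0, [])).1 (Nat.beq s (nat_lit 0))))
      (genPt.getD x (nat_lit 0, [])).1

/-- All the routes. -/
noncomputable def okRoutes : Bool := allN (nat_lit 2) fun j => allN (nat_lit 10) (okRoute j)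

/-- The entry of a point in the forest. -/
noncomputable def ent (d : ℕ) : ℕ := entry forest (nat_lit 16) (nat_lit 16) d

/-- The rank of an entry. -/
noncomputable def rk (e : ℕ) : ℕ :=
  Bool.rec (nat_lit 0) (Nat.div e (nat_lit 16)) (Nat.blt (Nat.mod e (nat_lit 16)) (nat_lit 9))

/-- The check of a point. -/
noncomputable def okPt (d : ℕ) : Bool :=
  force (ent d) fun e => force (Nat.mod e (nat_lit 16)) fun c => force (Nat.div e (nat_lit 16)) fun v =>
    Bool.rec
      (Bool.rec (Nat.blt v (nat_lit 324) && Nat.beq (Central.fpt v) d)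
        (Nat.blt v (nat_lit 2) && Nat.beq (roots.getD v (nat_lit 0, [])).1 d) (Nat.beq c (nat_lit 9)))
      (force (mev c d) fun d' => Nat.blt d' (nat_lit 31671) && Nat.blt (rk (ent d')) (rk e))
      (Nat.blt c (nat_lit 9))

/-- The check of a chunk of points. -/
noncomputable def okChunk (lo m : ℕ) : Bool := allN m fun i => force (Nat.add lo i) okPt

end CfsgLib.CosetEnum.Fi23Three.Maximal
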