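/-
Checks of the forest on the points of Fi23.
-/
import Cfsg.Agent.Lib.CosetEnum.Fi23Three.MaximalDefs

set_option autoImplicit false
set_option maxRecDepth 1000000

namespace CfsgLib.CosetEnum.Fi23Three.Maximal

theorem chunk2_ok : okChunk 16000 8000 = true := by decide +kernel

end CfsgLib.CosetEnum.Fi23Three.Maximal
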