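/-
A subgroup containing the centraliser of the central element of order three and a transposition outside it is the
whole of Fi23.
-/
import Cfsg.Agent.Lib.CosetEnum.Fi23Three.MaximalCheck0
import Cfsg.Agent.Lib.CosetEnum.Fi23Three.MaximalCheck1
import Cfsg.Agent.Lib.CosetEnum.Fi23Three.MaximalCheck2
import Cfsg.Agent.Lib.CosetEnum.Fi23Three.MaximalCheck3

set_option autoImplicit false
set_option maxRecDepth 1000000

namespace CfsgLib.CosetEnum.Fi23Three.Maximal

open CfsgLib.CosetEnum CfsgLib.CosetEnum.Fi23Three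

theorem okPair_spec {e : ℕ × List ℕ} (h : okPair e = true) : e.1 < 31671 ∧ (∀ x ∈ e.2, x < 10) ∧
    runT Fi31671.table 10 e.2 e.1 = 0 := by
  simp only [okPair, Bool.and_eq_true, List.all_eq_true, blt_iff] at h
  exact ⟨h.1.1, h.1.2, Nat.eq_of_beq_eq_true h.2⟩

theorem act_dt_pair {e : ℕ × List ℕ} (h : okPair e = true) {x : ℕ} (hx : x < 31671) :
    act (dt e.1) x = Central.tev e.2 x :=
  Central.act_dt_tev (okPair_spec h).2.1 (okPair_spec h).1 (okPair_spec h).2.2 hx

/-- The product of some transpositions. -/
noncomputable def fuseEl : K := (fuse.map fun e => dt e.1).prod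

theorem moves_spec : (∀ k < 7, moveIdx.getD k 0 < 324 ∧ okPair (Central.fpt (moveIdx.getD k 0), moveW.getD k []) = true) ∧
    (∀ e ∈ fuse, okPair e = true) ∧ (∀ e ∈ roots, okPair e = true) ∧ (∀ e ∈ genPt, okPair e = true) ∧
    (∀ x ∈ valR, x < 10) ∧ ∀ b ∈ base8, fev fuse (x0ev b) = x0ev (fev fuse b) := by
  have h := moves_ok
  simp only [okMoves, Bool.and_eq_true, List.all_eq_true, blt_iff] at h
  refine ⟨fun k hk => ?_, h.1.1.1.1.2, h.1.1.1.2, h.1.1.2, h.1.2, fun b hb => Nat.eq_of_beq_eq_true (h.2 b hb)⟩
  have := allN_spec h.1.1.1.1.1 k hk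
  simp only [force_eq, Bool.and_eq_true, blt_iff] at this
  exact this

theorem act_list : ∀ l : List (ℕ × List ℕ), (∀ e ∈ l, okPair e = true) → ∀ {x : ℕ}, x < 31671 →
    act ((l.map fun e => dt e.1).prod) x = fev l x := by
  intro l
  induction l with
  | nil => intro _ x _; exact act_one x
  | cons a l ih =>
    intro hl x hx
    have ih' := ih (fun e he => hl e (List.mem_cons_of_mem _ he)) hx
    rw [List.map_cons, List.prod_cons, act_mul, ih',
      act_dt_pair (hl a List.mem_cons_self) (ih' ▸ act_lt _ hx)]
    show _ = force (fev l x) (Central.tev a.2)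
    rw [force_eq]

theorem act_x0 {x : ℕ} (hx : x < 31671) : act Central.x0 x = x0ev x := by
  have h1 : runT Fi31671.table 10 Central.gW x < 31671 := act_el_inv Central.gW Central.gW_lt hx ▸ act_lt _ hx
  rw [← Central.conj_rt, act_mul, act_mul, Central.gel, act_el_inv Central.gW Central.gW_lt hx,
    act_rt (by norm_num) h1, act_el Central.gW Central.gW_lt (act_rt (k := 1) (by norm_num) h1 ▸ act_lt _ h1)]
  rfl

theorem fuse_commute : Commute fuseEl Central.x0 := by
  refine ext8 fun b hb => ?_
  have hb' := base8_lt b hb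
  obtain ⟨-, hf, -, -, -, hc⟩ := moves_spec
  rw [fuseEl, act_mul, act_mul, act_x0 hb', act_list fuse hf (act_x0 hb' ▸ act_lt _ hb'),
    act_list fuse hf hb', act_x0 (act_list fuse hf hb' ▸ act_lt _ hb')]
  exact hc b hb

/-- The moves. -/
noncomputable def mv (k : ℕ) : K :=
  if k < 7 then Central.q (moveIdx.getD k 0) else if k = 7 then X 11 else fuseEl

theorem mv_commute (k : ℕ) : Commute (mv k) Central.x0 := by
  unfold mv
  split_ifs with h h'
  · exact Central.q_cent (moves_spec.1 k h).1
  · exact (Central.x0_central (X_mem (by norm_num : 11 < 13))).symm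
  · exact fuse_commute

theorem act_mv (k : ℕ) {x : ℕ} (hx : x < 31671) : act (mv k) x = mev k x := by
  obtain ⟨hq, hf, -, -, hv, -⟩ := moves_spec
  unfold mv mev
  split_ifs with h h'
  · rw [show Nat.blt k 7 = true from blt_iff.mpr h]
    exact act_dt_pair (e := (Central.fpt (moveIdx.getD k 0), moveW.getD k [])) (hq k h).2 hx
  · rw [show Nat.blt k 7 = false from Bool.eq_false_iff.mpr fun q => h (blt_iff.mp q),
      show Nat.beq k 7 = true by rw [h']; exact Nat.beq_refl _]
    show act (el (gensW.getD 1 [])) x = _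
    have hv' : ∀ y ∈ gensW.getD 1 [], y < 10 := fun y hy => hv y (List.mem_reverse.mpr hy)
    exact act_el _ hv' hx
  · rw [show Nat.blt k 7 = false from Bool.eq_false_iff.mpr fun q => h (blt_iff.mp q),
      show Nat.beq k 7 = false from Bool.eq_false_iff.mpr fun q => h' (Nat.eq_of_beq_eq_true q)]
    exact act_list fuse hf hx

theorem dt_act (g : K) {d : ℕ} (hd : d < 31671) : dt (act g d) = g * dt d * g⁻¹ := by
  rw [dt_eq (act_lt _ hd) (g * toPt d) (by rw [act_mul, act_toPt hd]), dt]
  group

theorem pt_spec' {d : ℕ} (hd : d < 31671) : okPt d = true := by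
  rcases lt_or_ge d 8000 with h | h
  · have := allN_spec chunk0_ok d h
    rwa [force_eq, show Nat.add 0 d = d from Nat.zero_add d] at this
  rcases lt_or_ge d 16000 with h' | h'
  · have := allN_spec chunk1_ok (d - 8000) (by omega)
    rwa [force_eq, show Nat.add 8000 (d - 8000) = d from Nat.add_sub_cancel' h] at this
  rcases lt_or_ge d 24000 with h'' | h''
  · have := allN_spec chunk2_ok (d - 16000) (by omega)
    rwa [force_eq, show Nat.add 16000 (d - 16000) = d from Nat.add_sub_cancel' h'] at this
  · have := allN_spec chunk3_ok (d - 24000) (by omega)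
    rwa [force_eq, show Nat.add 24000 (d - 24000) = d from Nat.add_sub_cancel' h''] at this

variable {L : Subgroup K} (hL : ∀ g : K, Commute g Central.x0 → g ∈ L)
include hL

theorem route_mem {j : ℕ} (hj : okPair (roots.getD j (0, [])) = true) (hr : dt (roots.getD j (0, [])).1 ∈ L) :
    ∀ ks : List ℕ, (∀ k ∈ ks, k < 10) → ∀ d < 31671, dt d ∈ L →
      rev (roots.getD j (0, [])).2 ks d < 31671 ∧ dt (rev (roots.getD j (0, [])).2 ks d) ∈ L := by
  intro ks
  induction ks with
  | nil => intro _ d hd h; exact ⟨hd, h⟩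
  | cons k ks ih =>
    intro hks d hd h
    show (force (Bool.rec (mev k d) (Central.tev (roots.getD j (0, [])).2 d) (Nat.beq k 9))
        (rev (roots.getD j (0, [])).2 ks)) < 31671 ∧
      dt (force (Bool.rec (mev k d) (Central.tev (roots.getD j (0, [])).2 d) (Nat.beq k 9))
        (rev (roots.getD j (0, [])).2 ks)) ∈ L
    rw [force_eq]
    refine ih (fun e he => hks e (List.mem_cons_of_mem _ he)) _ ?_ ?_
    all_goals cases hk : Nat.beq k 9
    · exact act_mv k hd ▸ act_lt _ hd
    · exact act_dt_pair hj hd ▸ act_lt _ hd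
    · show dt (mev k d) ∈ L
      rw [← act_mv k hd, dt_act _ hd]
      exact mul_mem (mul_mem (hL _ (mv_commute k)) h) (inv_mem (hL _ (mv_commute k)))
    · show dt (Central.tev _ d) ∈ L
      rw [← act_dt_pair hj hd, dt_act _ hd]
      exact mul_mem (mul_mem hr h) (inv_mem hr)

theorem root_top {j : ℕ} (hj : j < 2) (hr : dt (roots.getD j (0, [])).1 ∈ L) : L = ⊤ := by
  obtain ⟨-, -, hroots, hgen, -, -⟩ := moves_spec
  have hlen : roots.length = 2 ∧ genPt.length = 10 := by decide +kernel
  have hp : okPair (roots.getD j (0, [])) = true := by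
    rw [List.getD_eq_getElem _ _ (hlen.1.symm ▸ hj)]
    exact hroots _ (List.getElem_mem _)
  rw [eq_top_iff, ← presFi23.gen_closure, Subgroup.closure_le]
  rintro _ ⟨x, hx, rfl⟩
  have hx : x < 10 := hx
  have hpx : okPair (genPt.getD x (0, [])) = true := by
    rw [List.getD_eq_getElem _ _ (hlen.2.symm ▸ hx)]
    exact hgen _ (List.getElem_mem _)
  have heq : presFi23.σ x = dt (genPt.getD x (0, [])).1 := by
    refine ext8 fun b hb => ?_
    have hb' := base8_lt b hb
    have h := allN_spec gens_ok x hx
    simp only [List.all_eq_true] at h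
    rw [act_dt_pair hpx hb', Nat.eq_of_beq_eq_true (h b hb), ← el_singleton,
      act_el [x] (by simpa using hx) hb']
    rfl
  rw [SetLike.mem_coe, heq]
  have h := allN_spec (allN_spec routes_ok j hj) x hx
  simp only [okRoute, force_eq, Bool.and_eq_true, blt_iff, List.all_eq_true] at h
  obtain ⟨⟨hs, hks⟩, hend⟩ := h
  rw [← Nat.eq_of_beq_eq_true hend]
  cases hz : Nat.beq ((routes.getD j []).getD x (0, [])).1 0
  · have hi : Nat.pred ((routes.getD j []).getD x (0, [])).1 < 324 := by
      have := Nat.ne_of_beq_eq_false hz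
      show _ - 1 < 324
      omega
    exact (route_mem hL hp hr _ hks _ (Central.conj_spec hi).2.1 (hL _ (Central.q_cent hi))).2
  · exact (route_mem hL hp hr _ hks _ (okPair_spec hp).1 hr).2

/-- A transposition in such a subgroup centralises the element, unless the subgroup is everything. -/
theorem top_or_commute {d : ℕ} (hd : d < 31671) (h : dt d ∈ L) : L = ⊤ ∨ Commute (dt d) Central.x0 := by
  suffices ∀ n, ∀ d < 31671, rk (ent d) < n → dt d ∈ L → L = ⊤ ∨ Commute (dt d) Central.x0 from
    this _ d hd (Nat.lt_succ_self _) h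
  intro n
  induction n with
  | zero => intro d _ h; exact absurd h (Nat.not_lt_zero _)
  | succ n ih =>
    intro d hd hn h
    have hok := pt_spec' hd
    simp only [okPt, force_eq] at hok
    revert hok
    cases hc : Nat.blt (Nat.mod (ent d) 16) 9
    · cases h9 : Nat.beq (Nat.mod (ent d) 16) 9
      · intro hok
        simp only [Bool.and_eq_true, blt_iff] at hok
        refine Or.inr ?_
        rw [← Nat.eq_of_beq_eq_true hok.2]
        exact Central.q_cent hok.1
      · intro hok
        simp only [Bool.and_eq_true, blt_iff] at hok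
        rw [← Nat.eq_of_beq_eq_true hok.2] at h
        exact Or.inl (root_top hL hok.1 h)
    · intro hok
      simp only [Bool.and_eq_true, blt_iff] at hok
      set k := Nat.mod (ent d) 16
      have hm : dt (act (mv k) d) = mv k * dt d * (mv k)⁻¹ := dt_act _ hd
      rw [← act_mv k hd] at hok
      have hmem : dt (act (mv k) d) ∈ L := by
        rw [hm]
        exact mul_mem (mul_mem (hL _ (mv_commute k)) h) (inv_mem (hL _ (mv_commute k)))
      rcases ih _ hok.1 (by omega) hmem with r | r
      · exact Or.inl r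
      · refine Or.inr ?_
        rw [hm] at r
        have := ((mv_commute k).inv_left.mul_left r).mul_left (mv_commute k)
        rwa [show (mv k)⁻¹ * (mv k * dt d * (mv k)⁻¹) * mv k = dt d by group] at this

end CfsgLib.CosetEnum.Fi23Three.Maximal
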