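/-
The ninth derived subgroup of the normaliser of the central element of order three of Fi23 is nontrivial.
-/
import Cfsg.Agent.Lib.CosetEnum.Fi23Three.Maximal
import Cfsg.Agent.Lib.CosetEnum.Fi23Three.DerivedData
import Mathlib.GroupTheory.Solvable

set_option autoImplicit false
set_option maxRecDepth 1000000

namespace CfsgLib.CosetEnum.Fi23Three.Maximal

open CfsgLib.CosetEnum CfsgLib.CosetEnum.Fi23Three
open scoped commutatorElement

/-- A member of a level. -/
noncomputable def mem (i j : ℕ) : List (ℕ × List ℕ) × ℕ × ℕ :=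
  (derived.getD i []).getD j ([], nat_lit 0, nat_lit 0)

/-- The member as a group element. -/
noncomputable def der (i j : ℕ) : K := ((mem i j).1.map fun e => dt e.1).prod

/-- The length of a level. -/
noncomputable def dlen (i : ℕ) : ℕ := (derived.getD i []).length

/-- The check of a member of a later level. -/
noncomputable def okStep (i j : ℕ) : Bool :=
  force (mem (Nat.succ i) j).2.1 fun a => force (mem (Nat.succ i) j).2.2 fun b =>
    Nat.blt a (dlen i) && Nat.blt b (dlen i) && base8.all fun x => Nat.beq (fev (mem (Nat.succ i) j).1 x)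
      (force (force (force (fev (mem i b).1.reverse x) (fev (mem i a).1.reverse)) (fev (mem i b).1)) (fev (mem i a).1))

/-- The check of a member of the first level. -/
noncomputable def okStart (j : ℕ) : Bool :=
  force (nat_lit 0) fun _ =>
    (base8.all fun x => Nat.beq (force (x0ev x) (fev (mem (nat_lit 0) j).1)) (force (fev (mem (nat_lit 0) j).1 x) x0ev)) ||
      (base8.all fun x => Nat.beq (force (x0ev x) (fev (mem (nat_lit 0) j).1))
        (force (force (fev (mem (nat_lit 0) j).1 x) x0ev) x0ev))

/-- All the checks. -/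
noncomputable def okDerived : Bool :=
  allN (nat_lit 10) (fun i => (derived.getD i []).all fun e => e.1.all okPair) &&
  allN (dlen (nat_lit 0)) okStart && allN (nat_lit 9) (fun i => allN (dlen (Nat.succ i)) (okStep i)) &&
  Nat.blt (nat_lit 0) (dlen (nat_lit 9)) &&
  base8.any fun x => !Nat.beq (fev (mem (nat_lit 9) (nat_lit 0)).1 x) x

theorem derived_ok : okDerived = true := by decide +kernel

theorem dt_sq (d : ℕ) : dt d * dt d = 1 := by
  rw [dt, show toPt d * tz * (toPt d)⁻¹ * (toPt d * tz * (toPt d)⁻¹) = toPt d * (tz * tz) * (toPt d)⁻¹ by group,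
    show tz * tz = 1 from Fi23Aut.t_sq]
  group

theorem prod_inv : ∀ l : List (ℕ × List ℕ),
    ((l.map fun e => dt e.1).prod)⁻¹ = (l.reverse.map fun e => dt e.1).prod := by
  intro l
  induction l with
  | nil => simp
  | cons a l ih =>
    rw [List.map_cons, List.prod_cons, mul_inv_rev, ih, List.reverse_cons, List.map_append, List.prod_append,
      inv_eq_of_mul_eq_one_right (dt_sq a.1)]
    simp

theorem mem_ok {i j : ℕ} (hi : i < 10) (hj : j < dlen i) : ∀ e ∈ (mem i j).1, okPair e = true := by
  have h := derived_ok
  simp only [okDerived, Bool.and_eq_true] at h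
  have h1 := allN_spec h.1.1.1.1 i hi
  simp only [List.all_eq_true] at h1
  have hj' : j < (derived.getD i []).length := hj
  rw [mem, List.getD_eq_getElem _ _ hj']
  exact h1 _ (List.getElem_mem _)

theorem act_der {i j : ℕ} (hi : i < 10) (hj : j < dlen i) {x : ℕ} (hx : x < 31671) :
    act (der i j) x = fev (mem i j).1 x := act_list _ (mem_ok hi hj) hx

theorem act_der_inv {i j : ℕ} (hi : i < 10) (hj : j < dlen i) {x : ℕ} (hx : x < 31671) :
    act (der i j)⁻¹ x = fev (mem i j).1.reverse x := by
  rw [der, prod_inv]
  exact act_list _ (fun e he => mem_ok hi hj e (List.mem_reverse.mp he)) hx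

theorem start_mem {j : ℕ} (hj : j < dlen 0) : der 0 j ∈ Subgroup.normalizer (Central.Z : Set K) := by
  have := finiteK
  have h := derived_ok
  simp only [okDerived, Bool.and_eq_true] at h
  have h' := allN_spec h.1.1.1.2 j hj
  simp only [okStart, force_eq, Bool.or_eq_true, List.all_eq_true] at h'
  set g := der 0 j
  have ev : ∀ {x : ℕ}, x < 31671 → act g x = fev (mem 0 j).1 x := fun hx => act_der (by norm_num) hj hx
  have key : g * Central.x0 * g⁻¹ ∈ Central.Z := by
    rcases h' with h' | h'
    · have e : g * Central.x0 = Central.x0 * g := ext8 fun b hb => by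
        have hb' := base8_lt b hb
        rw [act_mul, act_mul, ev (act_lt _ hb'), act_x0 hb', act_x0 (act_lt _ hb'), ev hb']
        exact Nat.eq_of_beq_eq_true (h' b hb)
      rw [e, mul_inv_cancel_right]
      exact Subgroup.mem_zpowers _
    · have e : g * Central.x0 = Central.x0 * Central.x0 * g := ext8 fun b hb => by
        have hb' := base8_lt b hb
        rw [act_mul, act_mul, act_mul, ev (act_lt _ hb'), act_x0 hb', act_x0 (act_lt _ (act_lt _ hb')),
          act_x0 (act_lt _ hb'), ev hb']
        exact Nat.eq_of_beq_eq_true (h' b hb)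
      rw [e, mul_inv_cancel_right]
      exact mul_mem (Subgroup.mem_zpowers _) (Subgroup.mem_zpowers _)
  have hle : Central.Z.map (MulAut.conj g).toMonoidHom ≤ Central.Z := by
    rw [MonoidHom.map_zpowers, Subgroup.zpowers_le]
    exact key
  have heq := Subgroup.eq_of_le_of_card_ge hle
    (le_of_eq (Subgroup.card_map_of_injective (MulAut.conj g).injective).symm)
  refine Subgroup.mem_normalizer_iff.mpr fun y => ⟨fun hy => hle ⟨y, hy, rfl⟩, fun hy => ?_⟩
  obtain ⟨z, hz, e⟩ := heq.symm ▸ hy
  rwa [← (MulAut.conj g).injective e]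

/-- The members of a level lie in the derived subgroup of that index. -/
theorem der_mem : ∀ i < 10, ∀ j < dlen i,
    der i j ∈ (derivedSeries ↥(Subgroup.normalizer (Central.Z : Set K)) i).map (Subgroup.subtype _) := by
  intro i
  induction i with
  | zero => intro _ j hj; exact ⟨⟨_, start_mem hj⟩, Subgroup.mem_top _, rfl⟩
  | succ i ih =>
    intro hi j hj
    have h := derived_ok
    simp only [okDerived, Bool.and_eq_true] at h
    have h' := allN_spec (allN_spec h.1.1.2 i (by omega)) j hj
    simp only [okStep, force_eq, Bool.and_eq_true, blt_iff, List.all_eq_true] at h'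
    obtain ⟨⟨ha, hb⟩, hx⟩ := h'
    obtain ⟨a, ha', ea⟩ := ih (by omega) _ ha
    obtain ⟨b, hb', eb⟩ := ih (by omega) _ hb
    refine ⟨⁅a, b⁆, Subgroup.commutator_mem_commutator ha' hb', ?_⟩
    rw [map_commutatorElement, ea, eb]
    refine ext8 fun x hx8 => ?_
    have hx' := base8_lt x hx8
    rw [commutatorElement_def, act_mul, act_mul, act_mul, act_der (by omega) ha (act_lt _ (act_lt _ (act_lt _ hx'))),
      act_der (by omega) hb (act_lt _ (act_lt _ hx')), act_der_inv (by omega) ha (act_lt _ hx'),
      act_der_inv (by omega) hb hx', act_der hi hj hx']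
    exact (Nat.eq_of_beq_eq_true (hx x hx8)).symm

/-- The ninth derived subgroup is nontrivial. -/
theorem nine_ne_bot : derivedSeries ↥(Subgroup.normalizer (Central.Z : Set K)) 9 ≠ ⊥ := by
  intro hbot
  have h := derived_ok
  simp only [okDerived, Bool.and_eq_true, blt_iff, List.any_eq_true] at h
  obtain ⟨x, hx, hne⟩ := h.2
  have hm := der_mem 9 (by norm_num) 0 h.1.2
  rw [hbot, Subgroup.map_bot, Subgroup.mem_bot] at hm
  rw [← act_der (by norm_num) h.1.2 (base8_lt x hx), hm, act_one] at hne
  simp at hne

end CfsgLib.CosetEnum.Fi23Three.Maximal
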